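import Cfsg.Agent.H770.CY.Defs
import Cfsg.Agent.H636.Gow.Par
import Cfsg.Agent.H687.Good

/-!
# S4829, `p = 2`: tools for the rows `Row2` (helper226)

* `stab χ` : the subgroup of `MulAut S` fixing the class function `χ`;
* `RatInv S Γ` : a nontrivial rational-valued irreducible character of odd degree fixed by `Γ ≤ MulAut S`;
* `row2_of_odd_index` : `RatInv S Γ` with `|MulAut S : Γ|` odd gives `Row2 S`;
* `row2_of_stab`, `row2_of_inner` (`Out S` of odd order: `RatOdd S` is enough), `row2_of_two` (`|Aut S| = 2 |S|`);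
* `row2_of_psi` : a rational generalized character of odd degree, `[ψ, 1] = 0`, `[ψ, ψ] ≤ 2`, with `stab ψ` of odd index;
* `row2_of_perm`, `row2_of_sub` : transitive actions of even degree and rank at most three;
* `Row2.congr`.
-/

set_option autoImplicit false

namespace Cfsg.Agent.H226.R2

open Cfsg Cfsg.Agent.Characters.Core Cfsg.Agent.Characters Cfsg.Agent.H636.Gow Cfsg.Agent.H770.CY MulAction
open Cfsg.Agent.H707.OddLift

universe u v

section

variable {S : Type u} [Group S]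

/-- the automorphisms fixing `χ` -/
def stab {A : Type*} (χ : S → A) : Subgroup (MulAut S) where
  carrier := {b | ∀ x, χ (b x) = χ x}
  one_mem' := fun _ => rfl
  mul_mem' := by
    intro a b ha hb x
    rw [MulAut.mul_apply, ha, hb]
  inv_mem' := by
    intro a ha x
    have := ha (a⁻¹ x)
    rwa [MulAut.apply_inv_self, eq_comm] at this

theorem mem_stab {A : Type*} {χ : S → A} {b : MulAut S} : b ∈ stab χ ↔ ∀ x, χ (b x) = χ x := Iff.rfl

/-- class functions are fixed by the inner automorphisms -/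
theorem inner_le_stab {χ : S → ℂ} (hχ : IsClassFunction S χ) : (MulAut.conj : S →* MulAut S).range ≤ stab χ := by
  rintro _ ⟨s, rfl⟩ x
  rw [MulAut.conj_apply]
  exact classFunction_apply_eq hχ (isConj_iff.2 ⟨s⁻¹, by group⟩)

/-- a nontrivial rational-valued irreducible character of odd degree fixed by `Γ` -/
def RatInv (S : Type u) [Group S] (Γ : Subgroup (MulAut S)) : Prop :=
  ∃ χ : S → ℂ, IsIrrCharacter S χ ∧ χ ≠ 1 ∧ (∃ d : ℕ, Odd d ∧ χ 1 = d) ∧ (∀ g : S, ∃ q : ℚ, χ g = q) ∧ Γ ≤ stab χ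

theorem RatInv.mono {Γ Γ' : Subgroup (MulAut S)} (h : RatInv S Γ) (hl : Γ' ≤ Γ) : RatInv S Γ' := by
  obtain ⟨χ, h1, h2, h3, h4, h5⟩ := h
  exact ⟨χ, h1, h2, h3, h4, hl.trans h5⟩

/-- conjugating `Γ` -/
theorem RatInv.conj {Γ : Subgroup (MulAut S)} (h : RatInv S Γ) (a : MulAut S) :
    RatInv S (Γ.map (MulAut.conj a).toMonoidHom) := by
  obtain ⟨χ, h1, h2, ⟨d, hd, h3⟩, h4, h5⟩ := h
  refine ⟨χ ∘ ((a⁻¹ : MulAut S) : S →* S), isIrr_comp _ (a⁻¹ : MulAut S).surjective h1, ?_, ⟨d, hd, ?_⟩, fun g => h4 _, ?_⟩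
  · intro h6
    apply h2
    funext x
    have h7 := congrFun h6 (a x)
    have h8 : (a⁻¹ : MulAut S) (a x) = x := MulAut.inv_apply_self _ _ _
    change χ ((a⁻¹ : MulAut S) (a x)) = 1 at h7
    rw [h8] at h7
    exact h7
  · rw [Function.comp_apply, map_one, h3]
  · rintro _ ⟨b, hb, rfl⟩ x
    change χ ((a⁻¹ : MulAut S) ((a * b * a⁻¹ : MulAut S) x)) = χ ((a⁻¹ : MulAut S) x)
    have h6 : (a⁻¹ : MulAut S) ((a * b * a⁻¹ : MulAut S) x) = b ((a⁻¹ : MulAut S) x) := by
      rw [MulAut.mul_apply, MulAut.mul_apply]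
      exact MulAut.inv_apply_self _ _ _
    rw [h6]
    exact h5 hb _

/-- the form used in `Row2` -/
theorem RatInv.exists_irr [Finite S] {Γ : Subgroup (MulAut S)} (h : RatInv S Γ) :
    ∃ θ : IrrCharacter S, (θ : S → ℂ) ≠ (fun _ => 1) ∧
      Odd (charDegree (θ : S → ℂ)) ∧ Cyc 2 (θ : S → ℂ) ∧ ∀ b ∈ Γ, ∀ x : S, (θ : S → ℂ) (b x) = (θ : S → ℂ) x := by
  obtain ⟨χ, h1, h2, ⟨d, hd, h3⟩, h4, h5⟩ := h
  refine ⟨⟨χ, h1⟩, h2, ?_, ?_, fun b hb x => h5 hb x⟩
  · have h6 : charDegree χ = d := Cfsg.Agent.H687.charDegree_of_eq h3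
    show Odd (charDegree χ)
    rw [h6]
    exact hd
  · intro k hk _ g
    exact (GaloisBasic.exists_rat_iff (isIrr_isCharacter h1) g).1 (h4 g) k hk

/-- a `2`-subgroup lies in a conjugate of a subgroup of odd index -/
theorem exists_conj_le {A : Type*} [Group A] [Finite A] (Γ B : Subgroup A) (hB : IsPGroup 2 B) (hi : Odd Γ.index) :
    ∃ a : A, B ≤ Γ.map (MulAut.conj a).toMonoidHom := by
  have := Fact.mk Nat.prime_two
  obtain ⟨P⟩ : Nonempty (Sylow 2 Γ) := inferInstance
  have hP : IsPGroup 2 (P.1.map Γ.subtype) := P.2.map _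
  obtain ⟨Q, hQ⟩ := hP.exists_le_sylow
  have hcard : Nat.card Q = Nat.card P := by
    rw [Q.card_eq_multiplicity, P.card_eq_multiplicity]
    congr 1
    rw [← Γ.card_mul_index, Nat.factorization_mul Nat.card_pos.ne' (Subgroup.index_ne_zero_of_finite),
      Finsupp.add_apply, Nat.factorization_eq_zero_of_not_dvd (n := Γ.index) (fun h => by
        rw [Nat.odd_iff] at hi
        omega), add_zero]
  have hQΓ : (Q : Subgroup A) ≤ Γ := by
    have h1 : P.1.map Γ.subtype = (Q : Subgroup A) := by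
      apply Subgroup.eq_of_le_of_card_ge hQ
      rw [Subgroup.card_map_of_injective Γ.subtype_injective]
      exact hcard.le
    rw [← h1]
    exact Subgroup.map_subtype_le _
  obtain ⟨R, hR⟩ := hB.exists_le_sylow
  obtain ⟨a, ha⟩ := exists_smul_eq A Q R
  refine ⟨a, hR.trans ?_⟩
  rw [← ha]
  intro x hx
  obtain ⟨y, hy, rfl⟩ := hx
  exact ⟨y, hQΓ hy, rfl⟩

/-- **It is enough to have a character fixed by a subgroup of odd index of `Aut S`.** -/
theorem row2_of_odd_index [Finite S] {Γ : Subgroup (MulAut S)} (hi : Odd Γ.index) (h : RatInv S Γ) : Row2 S := by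
  intro B hB
  obtain ⟨a, ha⟩ := exists_conj_le Γ B hB hi
  exact ((h.conj a).mono ha).exists_irr

/-- a rational irreducible character of odd degree with stabiliser of odd index -/
theorem row2_of_stab [Finite S] {χ : S → ℂ} (h1 : IsIrrCharacter S χ) (h2 : χ ≠ 1) (h3 : ∃ d : ℕ, Odd d ∧ χ 1 = d)
    (h4 : ∀ g : S, ∃ q : ℚ, χ g = q) (h5 : Odd (stab χ).index) : Row2 S :=
  row2_of_odd_index h5 ⟨χ, h1, h2, h3, h4, le_rfl⟩

theorem odd_of_dvd {m n : ℕ} (h : m ∣ n) (hn : Odd n) : Odd m := hn.of_dvd_nat h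

/-- `Out S` of odd order -/
theorem row2_of_inner [Finite S] (hO : Odd (MulAut.conj : S →* MulAut S).range.index) (h : RatOdd S) : Row2 S := by
  obtain ⟨χ, h1, h2, h3, h4⟩ := h
  exact row2_of_odd_index hO ⟨χ, h1, h2, h3, h4, inner_le_stab (isIrr_isClassFunction h1)⟩

/-- `|Aut S| = m |S|`, `m` odd, `S` simple nonabelian -/
theorem row2_of_card [Finite S] [IsSimpleGroup S] (hna : ¬ IsMulCommutative S) {m : ℕ} (hm : Odd m)
    (hc : Nat.card (MulAut S) = m * Nat.card S) (h : RatOdd S) : Row2 S := by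
  apply row2_of_inner _ h
  have h1 := (MulAut.conj : S →* MulAut S).range.card_mul_index
  have h2 : Nat.card (MulAut.conj : S →* MulAut S).range = Nat.card S := by
    refine (Nat.card_congr (MonoidHom.ofInjective ?_).toEquiv).symm
    rw [injective_iff_map_eq_one]
    intro s hs
    have h3 : s ∈ Subgroup.center S := by
      rw [Subgroup.mem_center_iff]
      intro g
      have := DFunLike.congr_fun hs g
      rw [MulAut.conj_apply, MulAut.one_apply, mul_inv_eq_iff_eq_mul] at this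
      exact this.symm
    rcases (inferInstance : (Subgroup.center S).Normal).eq_bot_or_eq_top with h4 | h4
    · rw [h4] at h3
      exact Subgroup.mem_bot.1 h3
    · exact absurd ⟨⟨fun a b => by
        have : b ∈ Subgroup.center S := by rw [h4]; exact Subgroup.mem_top _
        exact Subgroup.mem_center_iff.1 this a⟩⟩ hna
  rw [h2, hc, mul_comm] at h1
  have h3 : (MulAut.conj : S →* MulAut S).range.index = m := Nat.eq_of_mul_eq_mul_right Nat.card_pos h1
  rw [h3]
  exact hm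

end

/-! ### the odd part of a generalized character -/

section

variable {S : Type u} [Group S] [Fintype S]

open Cfsg.Agent.H707.Norm Cfsg.Agent.H707.Orbits

attribute [local instance] irrAction

theorem irr_comp_aut {χ : S → ℂ} (h : IsIrrCharacter S χ) (b : MulAut S) : IsIrrCharacter S (fun x => χ (b x)) :=
  isIrr_comp (b : S →* S) b.surjective h

theorem classInner_aut (φ ψ : S → ℂ) (b : MulAut S) :
    classInner (fun x => φ (b x)) (fun x => ψ (b x)) = classInner φ ψ := by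
  unfold classInner
  congr 1
  exact Fintype.sum_equiv b.toEquiv _ _ fun _ => rfl

/-- the automorphisms act on the irreducible characters -/
def tw (b : MulAut S) (χ : IrrCharacter S) : IrrCharacter S := ⟨fun x => (χ : S → ℂ) (b⁻¹ x), irr_comp_aut χ.2 b⁻¹⟩

theorem tw_one (χ : IrrCharacter S) : tw 1 χ = χ := by
  apply Subtype.ext
  funext x
  show (χ : S → ℂ) ((1 : MulAut S)⁻¹ x) = _
  rw [inv_one, MulAut.one_apply]

theorem tw_mul (a b : MulAut S) (χ : IrrCharacter S) : tw (a * b) χ = tw a (tw b χ) := by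
  apply Subtype.ext
  funext x
  show (χ : S → ℂ) ((a * b)⁻¹ x) = (χ : S → ℂ) (b⁻¹ (a⁻¹ x))
  rw [mul_inv_rev, MulAut.mul_apply]

/-- the action of `MulAut S` on `IrrCharacter S` -/
def twAct : MulAction (MulAut S) (IrrCharacter S) where
  smul := tw
  one_smul := tw_one
  mul_smul := tw_mul

theorem mem_stab_iff_tw {b : MulAut S} {χ : IrrCharacter S} : tw b χ = χ ↔ b ∈ stab (χ : S → ℂ) := by
  constructor
  · intro h x
    have h1 := congrFun (congrArg Subtype.val h) (b x)
    change (χ : S → ℂ) (b⁻¹ (b x)) = (χ : S → ℂ) (b x) at h1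
    rw [MulAut.inv_apply_self] at h1
    exact h1.symm
  · intro h
    apply Subtype.ext
    funext x
    have h1 := h (b⁻¹ x)
    rw [MulAut.apply_inv_self] at h1
    exact h1.symm

/-- **The odd-degree constituents of odd multiplicity**: an odd number, stable under the automorphisms of `ℂ` and under
the automorphisms fixing `ψ`. -/
theorem exists_supp {ψ : S → ℂ} (hψ : IsGeneralizedCharacter S ψ) (h1 : classInner ψ 1 = 0)
    (hodd : ∃ k : ℤ, Odd k ∧ ψ 1 = k) :
    ∃ T : Finset (IrrCharacter S), Odd T.card ∧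
      (∀ χ : IrrCharacter S, χ ∈ T ↔ OddDeg (χ : S → ℂ) ∧ ∃ k : ℤ, Odd k ∧ classInner ψ (χ : S → ℂ) = k) ∧
      (∀ χ ∈ T, (χ : S → ℂ) ≠ 1) ∧ (∀ n : ℕ, classInner ψ ψ = n → T.card ≤ n) ∧
      (∀ b ∈ stab ψ, ∀ χ ∈ T, tw b χ ∈ T) ∧
      ((∀ g : S, ∃ q : ℚ, ψ g = q) → ∀ (σ : ℂ ≃+* ℂ), ∀ χ ∈ T, σ • χ ∈ T) := by
  classical
  have := finite_irr (G := S)
  have := Fintype.ofFinite (IrrCharacter S)
  obtain ⟨m, hm⟩ := isGeneralizedCharacter_iff.1 hψ
  have hdeg : ∀ χ : IrrCharacter S, ∃ d : ℕ, (χ : S → ℂ) 1 = d := fun χ => by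
    obtain ⟨d, -, hd⟩ := isIrr_apply_one χ.2
    exact ⟨d, hd⟩
  choose d hd using hdeg
  have hmem : ∀ χ : IrrCharacter S, χ ∈ Finset.univ.filter (fun χ => Odd (m χ) ∧ Odd (d χ)) ↔
      OddDeg (χ : S → ℂ) ∧ ∃ k : ℤ, Odd k ∧ classInner ψ (χ : S → ℂ) = k := by
    intro χ
    rw [Finset.mem_filter]
    constructor
    · rintro ⟨-, h2, h3⟩
      exact ⟨⟨d χ, h3, hd χ⟩, m χ, h2, coeff_eq hm χ⟩
    · rintro ⟨⟨e, he, he1⟩, k, hk, hk1⟩
      refine ⟨Finset.mem_univ _, ?_, ?_⟩
      · rw [coeff_eq hm] at hk1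
        have : m χ = k := by exact_mod_cast hk1
        rwa [this]
      · rw [hd] at he1
        have : d χ = e := by exact_mod_cast he1
        rwa [this]
  refine ⟨Finset.univ.filter (fun χ => Odd (m χ) ∧ Odd (d χ)), ?_, hmem, ?_, ?_, ?_, ?_⟩
  · -- parity
    obtain ⟨k, hk, hk1⟩ := hodd
    have h2 : k = ∑ χ : IrrCharacter S, m χ * d χ := by
      have h3 : ψ 1 = ((∑ χ : IrrCharacter S, m χ * d χ : ℤ) : ℂ) := by
        conv_lhs => rw [hm]
        rw [Finset.sum_apply]
        push_cast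
        refine Finset.sum_congr rfl fun χ _ => ?_
        rw [Pi.smul_apply, zsmul_eq_mul, hd]
      rw [hk1] at h3
      exact_mod_cast h3
    rw [h2, odd_int_sum] at hk
    have h4 : (Finset.univ.filter (fun χ => Odd (m χ) ∧ Odd (d χ))) =
        Finset.univ.filter (fun χ => Odd (m χ * (d χ : ℤ))) := by
      ext χ
      simp only [Finset.mem_filter, Finset.mem_univ, true_and, Int.odd_mul, Int.odd_coe_nat]
    rw [h4]
    exact hk
  · intro χ hχ
    rw [Finset.mem_filter] at hχ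
    apply ne_one_of_supp hm h1
    rintro h0
    rw [h0] at hχ
    exact absurd hχ.2.1 (by decide)
  · intro n hn
    have h2 := sum_sq hm hn
    have hsq : ∀ χ ∈ Finset.univ.filter (fun χ => Odd (m χ) ∧ Odd (d χ)), (1 : ℤ) ≤ m χ ^ 2 := by
      intro χ hχ
      rw [Finset.mem_filter] at hχ
      have h0 : m χ ≠ 0 := by
        rintro h0
        rw [h0] at hχ
        exact absurd hχ.2.1 (by decide)
      have := sq_pos_of_ne_zero h0
      omega
    have h3 : ((Finset.univ.filter (fun χ => Odd (m χ) ∧ Odd (d χ))).card : ℤ) ≤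
        ∑ χ ∈ Finset.univ.filter (fun χ => Odd (m χ) ∧ Odd (d χ)), m χ ^ 2 := by
      have := Finset.card_nsmul_le_sum _ (fun χ => m χ ^ 2) 1 hsq
      simpa using this
    have h4 : ∑ χ ∈ Finset.univ.filter (fun χ => Odd (m χ) ∧ Odd (d χ)), m χ ^ 2 ≤ ∑ χ, m χ ^ 2 :=
      Finset.sum_le_sum_of_subset_of_nonneg (Finset.filter_subset _ _) fun _ _ _ => sq_nonneg _
    omega
  · intro b hb χ hχ
    rw [hmem] at hχ ⊢
    obtain ⟨⟨e, he, he1⟩, k, hk, hk1⟩ := hχ
    refine ⟨⟨e, he, ?_⟩, k, hk, ?_⟩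
    · show (χ : S → ℂ) (b⁻¹ 1) = e
      rw [map_one, he1]
    · rw [← hk1]
      have h2 := classInner_aut ψ (χ : S → ℂ) b⁻¹
      have h3 : (fun x => ψ (b⁻¹ x)) = ψ := funext fun x => (inv_mem hb : b⁻¹ ∈ stab ψ) x
      rw [h3] at h2
      exact h2
  · intro hrat σ χ hχ
    rw [Finset.mem_filter] at hχ ⊢
    refine ⟨Finset.mem_univ _, ?_, ?_⟩
    · rw [coeff_smul hm hrat]
      exact hχ.2.1
    · have h := smul_apply_one σ χ
      rw [hd, hd] at h
      have : d (σ • χ) = d χ := by exact_mod_cast h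
      rw [this]
      exact hχ.2.2

/-- **The character found by `ratOdd_of_norm_le_two` is fixed by every automorphism fixing `ψ`.** -/
theorem ratInv_of_norm_le_two {ψ : S → ℂ} (hψ : IsGeneralizedCharacter S ψ) (hrat : ∀ g : S, ∃ q : ℚ, ψ g = q)
    (h1 : classInner ψ 1 = 0) (hodd : ∃ k : ℤ, Odd k ∧ ψ 1 = k) {n : ℕ} (hn : classInner ψ ψ = n) (hn2 : n ≤ 2) :
    RatInv S (stab ψ) := by
  classical
  obtain ⟨T, hT, hT1, hT2, hT3, hT4, hT5⟩ := exists_supp hψ h1 hodd
  have h2 := hT3 n hn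
  have h3 : T.card = 1 := by
    obtain ⟨k, hk⟩ := hT
    omega
  obtain ⟨χ, rfl⟩ := Finset.card_eq_one.1 h3
  have hm := Finset.mem_singleton_self χ
  refine ⟨χ, χ.2, hT2 χ hm, ((hT1 χ).1 hm).1, fun g => ?_, fun b hb => ?_⟩
  · apply GaloisBasic.exists_rat_of_forall_ringEquiv
    · exact (GaloisBasic.isIntegral_apply (isIrr_isCharacter χ.2) g).tower_top
    · intro σ
      exact congrFun (congrArg Subtype.val (Finset.mem_singleton.1 (hT5 hrat σ χ hm))) g
  · exact mem_stab_iff_tw.1 (Finset.mem_singleton.1 (hT4 b hb χ hm))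

/-- **`ψ` of norm at most two.** -/
theorem row2_of_psi {ψ : S → ℂ} (hψ : IsGeneralizedCharacter S ψ) (hrat : ∀ g : S, ∃ q : ℚ, ψ g = q)
    (h1 : classInner ψ 1 = 0) (hodd : ∃ k : ℤ, Odd k ∧ ψ 1 = k) {n : ℕ} (hn : classInner ψ ψ = n) (hn2 : n ≤ 2)
    (hst : Odd (stab ψ).index) : Row2 S :=
  row2_of_odd_index hst (ratInv_of_norm_le_two hψ hrat h1 hodd hn hn2)

/-- a `2`-group acting on a finite set of odd size fixes a point -/
theorem exists_fixed_of_odd {B α : Type*} [Group B] [Finite B] [MulAction B α] (hB : IsPGroup 2 B) (T : Finset α)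
    (hT : Odd T.card) (hst : ∀ b : B, ∀ χ ∈ T, b • χ ∈ T) : ∃ χ ∈ T, ∀ b : B, b • χ = χ := by
  classical
  have := Fact.mk Nat.prime_two
  let _ : MulAction B T :=
    { smul := fun b χ => ⟨b • χ.1, hst b χ.1 χ.2⟩
      one_smul := fun χ => Subtype.ext (one_smul _ _)
      mul_smul := fun a b χ => Subtype.ext (mul_smul _ _ _) }
  have h1 : ¬ 2 ∣ Nat.card T := by
    rw [Nat.card_eq_fintype_card, Fintype.card_coe]
    rw [Nat.odd_iff] at hT
    omega
  obtain ⟨χ, hχ⟩ := hB.nonempty_fixed_point_of_prime_not_dvd_card T h1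
  exact ⟨χ.1, χ.2, fun b => congrArg Subtype.val (hχ b)⟩

/-- **all odd-degree constituents of odd multiplicity rational, `stab ψ` of odd index** -/
theorem row2_of_all_rat {ψ : S → ℂ} (hψ : IsGeneralizedCharacter S ψ) (h1 : classInner ψ 1 = 0)
    (hodd : ∃ k : ℤ, Odd k ∧ ψ 1 = k)
    (hall : ∀ χ : IrrCharacter S, OddDeg (χ : S → ℂ) → classInner ψ (χ : S → ℂ) ≠ 0 → ∀ g : S, ∃ q : ℚ, (χ : S → ℂ) g = q)
    (hst : Odd (stab ψ).index) : Row2 S := by
  classical
  intro B hB
  obtain ⟨a, ha⟩ := exists_conj_le (stab ψ) B hB hst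
  have hB' : IsPGroup 2 (B.map (MulAut.conj a⁻¹).toMonoidHom) := hB.map _
  have hB'le : B.map (MulAut.conj a⁻¹).toMonoidHom ≤ stab ψ := by
    rintro _ ⟨b, hb, rfl⟩
    obtain ⟨c, hc, hcb⟩ := ha hb
    change a * c * a⁻¹ = b at hcb
    change a⁻¹ * b * (a⁻¹)⁻¹ ∈ stab ψ
    rw [← hcb]
    have : a⁻¹ * (a * c * a⁻¹) * (a⁻¹)⁻¹ = c := by group
    rw [this]
    exact hc
  obtain ⟨T, hT, hT1, hT2, hT3, hT4, hT5⟩ := exists_supp hψ h1 hodd
  let _ := twAct (S := S)
  obtain ⟨χ, hχ, hf⟩ := exists_fixed_of_odd (B := B.map (MulAut.conj a⁻¹).toMonoidHom) hB' T hT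
    (fun b χ hχ => hT4 b.1 (hB'le b.2) χ hχ)
  obtain ⟨h2, k, hk, hk1⟩ := (hT1 χ).1 hχ
  have h3 : RatInv S (B.map (MulAut.conj a⁻¹).toMonoidHom) := by
    refine ⟨χ, χ.2, hT2 χ hχ, h2, hall χ h2 ?_, fun b hb => mem_stab_iff_tw.1 (hf ⟨b, hb⟩)⟩
    rw [hk1]
    intro h0
    have : k = 0 := by exact_mod_cast h0
    rw [this] at hk
    exact absurd hk (by decide)
  have h4 := h3.conj a
  refine (h4.mono ?_).exists_irr
  intro b hb
  refine ⟨a⁻¹ * b * (a⁻¹)⁻¹, ⟨b, hb, rfl⟩, ?_⟩
  change a * (a⁻¹ * b * (a⁻¹)⁻¹) * a⁻¹ = b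
  group

/-! ### permutation characters -/

/-- twisted equivariant permutations give automorphisms fixing the permutation character -/
theorem mem_stab_perm {X : Type*} [MulAction S X] {b : MulAut S} (f : X ≃ X) (hf : ∀ (s : S) (x : X), f (s • x) = b s • f x)
    (c : ℂ) : b ∈ stab (fun g : S => (Nat.card (fixedBy X g) : ℂ) - c) := by
  intro s
  have : Nat.card (fixedBy X (b s)) = Nat.card (fixedBy X s) := by
    refine (Nat.card_congr (f.subtypeEquiv fun x => ?_)).symm
    rw [mem_fixedBy, mem_fixedBy, ← hf, f.injective.eq_iff]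
  show ((Nat.card (fixedBy X (b s)) : ℂ) - c) = _
  rw [this]

/-- `b` maps `H` to a conjugate -/
theorem mem_stab_coset (H : Subgroup S) {b : MulAut S} {s : S} (h : H.map (b : S →* S) = H.map (MulAut.conj s).toMonoidHom)
    (c : ℂ) : b ∈ stab (fun g : S => (Nat.card (fixedBy (S ⧸ H) g) : ℂ) - c) := by
  -- `x H ↦ b x s H`
  have hb : ∀ x : S, x ∈ H ↔ s⁻¹ * b x * s ∈ H := by
    intro x
    constructor
    · intro hx
      have h1 : b x ∈ H.map (b : S →* S) := ⟨x, hx, rfl⟩
      rw [h] at h1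
      obtain ⟨y, hy, hy1⟩ := h1
      change s * y * s⁻¹ = b x at hy1
      rw [← hy1]
      have : s⁻¹ * (s * y * s⁻¹) * s = y := by group
      rw [this]
      exact hy
    · intro hx
      have h1 : s * (s⁻¹ * b x * s) * s⁻¹ ∈ H.map (MulAut.conj s).toMonoidHom := ⟨_, hx, rfl⟩
      rw [← h] at h1
      obtain ⟨y, hy, hy1⟩ := h1
      have h2 : b y = b x := by
        change b y = _ at hy1
        rw [hy1]
        group
      rw [← b.injective h2]
      exact hy
  let f : S ⧸ H → S ⧸ H := Quotient.map' (fun x => b x * s) (by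
    intro x y hxy
    rw [QuotientGroup.leftRel_apply] at hxy ⊢
    have h1 := (hb _).1 hxy
    have h2 : (b x * s)⁻¹ * (b y * s) = s⁻¹ * b (x⁻¹ * y) * s := by
      rw [map_mul, map_inv]
      group
    rw [h2]
    exact h1)
  have hfm : ∀ x : S, f (QuotientGroup.mk x) = QuotientGroup.mk (b x * s) := fun _ => rfl
  have hinj : Function.Injective f := by
    intro p q
    induction p using QuotientGroup.induction_on with
    | H x =>
      induction q using QuotientGroup.induction_on with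
      | H y =>
        rw [hfm, hfm, QuotientGroup.eq, QuotientGroup.eq]
        intro h1
        rw [hb]
        have h2 : (b x * s)⁻¹ * (b y * s) = s⁻¹ * b (x⁻¹ * y) * s := by
          rw [map_mul, map_inv]
          group
        rwa [h2] at h1
  have hbij : Function.Bijective f := Finite.injective_iff_bijective.1 hinj
  refine mem_stab_perm (Equiv.ofBijective f hbij) ?_ c
  intro t p
  induction p using QuotientGroup.induction_on with
  | H x =>
    change f (QuotientGroup.mk (t * x)) = b t • f (QuotientGroup.mk x)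
    rw [hfm, hfm]
    change _ = QuotientGroup.mk (b t * (b x * s))
    rw [map_mul, mul_assoc]

/-- **transitive actions of even degree and rank at most three** -/
theorem ratInv_of_rank_three (X : Type*) [MulAction S X] [Finite X] [IsPretransitive S X] [Nonempty X]
    (heven : Even (Nat.card X)) (hr : Nat.card (Quotient (orbitRel S (X × X))) ≤ 3) :
    RatInv S (stab fun g : S => (Nat.card (fixedBy X g) : ℂ) - 1) := by
  classical
  obtain ⟨ψ, hψ⟩ : ∃ ψ : S → ℂ, ψ = fun g => (Nat.card (fixedBy X g) : ℂ) - 1 := ⟨_, rfl⟩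
  obtain ⟨h1, h2, h3, h4, h5⟩ := H707.Rank.norm_permChar (G := S) X hψ
  have hpos : 0 < Nat.card (Quotient (orbitRel S (X × X))) := by
    have : Finite (Quotient (orbitRel S (X × X))) := Quotient.finite _
    have : Nonempty (Quotient (orbitRel S (X × X))) := ⟨Quotient.mk _ (Classical.arbitrary _)⟩
    exact Nat.card_pos
  rw [← hψ]
  refine ratInv_of_norm_le_two h1 h2 h3 ⟨(Nat.card X : ℤ) - 1, ?_, by rw [h5]; push_cast; ring⟩
    (n := Nat.card (Quotient (orbitRel S (X × X))) - 1) ?_ (by omega)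
  · obtain ⟨r, hr⟩ := heven
    exact ⟨(r : ℤ) - 1, by push_cast [hr]; ring⟩
  · rw [h4]
    push_cast [Nat.cast_sub (show 1 ≤ Nat.card (Quotient (orbitRel S (X × X))) from hpos)]
    ring

/-- **transitive actions of even degree, rank at most three, twisted equivariant for one outer automorphism** `b`:
`Inn S` and `b` generate a subgroup of odd index of `Aut S` -/
theorem row2_of_perm (X : Type*) [MulAction S X] [Finite X] [IsPretransitive S X] [Nonempty X]
    (heven : Even (Nat.card X)) (hr : Nat.card (Quotient (orbitRel S (X × X))) ≤ 3)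
    {b : MulAut S} (f : X ≃ X) (hf : ∀ (s : S) (x : X), f (s • x) = b s • f x)
    (hi : Odd ((MulAut.conj : S →* MulAut S).range ⊔ Subgroup.zpowers b).index) : Row2 S := by
  classical
  have h1 := ratInv_of_rank_three (S := S) X heven hr
  refine row2_of_odd_index hi (h1.mono (sup_le ?_ ?_))
  · apply inner_le_stab
    obtain ⟨ψ, hψ⟩ : ∃ ψ : S → ℂ, ψ = fun g => (Nat.card (fixedBy X g) : ℂ) - 1 := ⟨_, rfl⟩
    obtain ⟨h2, -, -, -, -⟩ := H707.Rank.norm_permChar (G := S) X hψ
    rw [← hψ]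
    obtain ⟨α, β, hα, hβ, rfl⟩ := h2
    intro g x
    rw [Pi.sub_apply, Pi.sub_apply, isCharacter_isClassFunction hα g x, isCharacter_isClassFunction hβ g x]
  · rw [Subgroup.zpowers_le]
    exact mem_stab_perm f hf 1

end

/-- `|Aut S| = 2 |S|` and `b` is not inner: `Inn S` and `b` generate `Aut S` -/
theorem sup_zpowers_eq_top {S : Type u} [Group S] [Finite S] (hc : (MulAut.conj : S →* MulAut S).range.index ∣ 2)
    {b : MulAut S} (hb : ∀ s : S, b ≠ MulAut.conj s) :
    (MulAut.conj : S →* MulAut S).range ⊔ Subgroup.zpowers b = ⊤ := by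
  set R := (MulAut.conj : S →* MulAut S).range with hR
  have h1 : R ≤ R ⊔ Subgroup.zpowers b := le_sup_left
  have h2 := Subgroup.relIndex_mul_index h1
  have h3 : R.relIndex (R ⊔ Subgroup.zpowers b) ≠ 1 := by
    intro h4
    rw [Subgroup.relIndex_eq_one] at h4
    have h5 : b ∈ R := h4 ((le_sup_right : Subgroup.zpowers b ≤ _) (Subgroup.mem_zpowers b))
    obtain ⟨s, hs⟩ := h5
    exact hb s hs.symm
  have h6 : R.index ≠ 1 := fun h => h3 (Nat.dvd_one.1 (h ▸ Dvd.intro _ h2))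
  have h7 : R.index = 2 := ((Nat.dvd_prime Nat.prime_two).1 hc).resolve_left h6
  rw [h7] at h2
  have h8 : R.relIndex (R ⊔ Subgroup.zpowers b) ∣ 2 := Dvd.intro _ h2
  have h9 := ((Nat.dvd_prime Nat.prime_two).1 h8).resolve_left h3
  rw [h9] at h2
  rw [← Subgroup.index_eq_one]
  omega

end Cfsg.Agent.H226.R2
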