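import Cfsg.Agent.H226.R2.SpCC
import Cfsg.Agent.H206.PspBal

/-!
# The CC-torus of the centralizer of an involutory field automorphism of `PSp₄(q)`, `q` even (helper226)

`exists_cc_cent` : the piece (P-C) of helper48's plan (S4829, `p = 2`, `Sp₄(2^f)`, `f ≡ 2 (mod 4)`).
-/

set_option autoImplicit false

namespace Cfsg.Agent.H226.R2

open Subgroup Cfsg Cfsg.Agent.Characters.CCBasic Cfsg.Agent.H206.PspBal Cfsg.Agent.H206.PspFix

universe u v

/-- the torus over the small field, transported by an isomorphism -/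
theorem exists_cc_of_equiv {F₀ : Type} [Field F₀] [Fintype F₀] [CharP F₀ 2] {C : Type v} [Group C] [Finite C]
    (e : Matrix.symplecticGroup (Fin 2) F₀ ≃* C) {m : ℕ} (hm : Fintype.card F₀ ^ 2 + 1 = m) (h5 : 5 ∣ m) :
    ∃ T : Subgroup C, IsCC T ∧ IsCyclic T ∧ Nat.card T = m ∧ ∃ x ∈ T, orderOf x = 5 ∧
      ∀ k : ℕ, ¬ 5 ∣ k → IsConj x (x ^ k) := by
  subst hm
  obtain ⟨x, y, h1, -, -, h4, h6⟩ := exists_frob_cc F₀
  have h1' : orderOf (e x) = Fintype.card F₀ ^ 2 + 1 := by rw [MulEquiv.orderOf_eq, h1]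
  have h4' : e y * e x = e x ^ Fintype.card F₀ * e y := by rw [← map_mul, h4, map_mul, map_pow]
  obtain ⟨h7, h8⟩ := isConj_pow_five h1' h5 h4'
  exact ⟨zpowers (e x), isCC_zpowers_map _ h6, inferInstance, by rw [Nat.card_zpowers, h1'], _,
    pow_mem (mem_zpowers _) _, h7, h8⟩

section

variable {F : Type} [Field F] [Fintype F] [CharP F 2]

theorem center_bot (m : ℕ) : Subgroup.center ↥(Matrix.symplecticGroup (Fin m) F) = ⊥ := H292.SpCen.center_eq_bot m

theorem mk_injective {m : ℕ} {s t : Matrix.symplecticGroup (Fin m) F}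
    (h : (QuotientGroup.mk s : PSp m F) = QuotientGroup.mk t) : s = t := by
  rw [QuotientGroup.eq, center_bot, mem_bot] at h
  exact inv_mul_eq_one.1 h

/-- the isomorphism of `Sp_m(F₀)` with the fixed points -/
theorem exists_equiv_fix (m : ℕ) (sigma : F ≃+* F) (C : Subgroup (PSp m F))
    (hC : ∀ s, s ∈ C ↔ phi m F sigma s = s) :
    Nonempty (Matrix.symplecticGroup (Fin m) (H966.Frob.fix sigma) ≃* C) := by
  have hj : ∀ a, sigma a = a ↔ ∃ b, (H966.Frob.fix sigma).subtype b = a := by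
    intro a
    constructor
    · intro h
      exact ⟨⟨a, h⟩, rfl⟩
    · rintro ⟨b, rfl⟩
      exact b.2
  have hmem : ∀ A, psi m (H966.Frob.fix sigma).subtype A ∈ C := by
    intro A
    rw [hC, psi_apply, phi_mk, (mem_range_mapSp hj).1 ⟨A, rfl⟩]
  refine ⟨MulEquiv.ofBijective ((psi m (H966.Frob.fix sigma).subtype).codRestrict C hmem) ⟨?_, ?_⟩⟩
  · intro A B h
    have h1 : psi m (H966.Frob.fix sigma).subtype A = psi m (H966.Frob.fix sigma).subtype B := congrArg Subtype.val h
    rw [psi_apply, psi_apply] at h1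
    exact mapSp_injective _ (mk_injective h1)
  · rintro ⟨c, hc⟩
    obtain ⟨s, rfl⟩ := QuotientGroup.mk_surjective c
    rw [hC, phi_mk] at hc
    obtain ⟨B, hB⟩ := (mem_range_mapSp hj (s := s)).2 (mk_injective hc)
    refine ⟨B, Subtype.ext ?_⟩
    show psi m (H966.Frob.fix sigma).subtype B = _
    rw [psi_apply, hB]

/-- **(P-C)** the centralizer of the involutory field automorphism has a CC-torus of order `q₀² + 1 = |F| + 1` -/
theorem exists_cc_cent {sigma : F ≃+* F} (h2 : sigma * sigma = 1) (h1 : sigma ≠ 1) (h5 : 5 ∣ Fintype.card F + 1)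
    (C : Subgroup (PSp 2 F)) (hC : ∀ s, s ∈ C ↔ phi 2 F sigma s = s) :
    ∃ T : Subgroup C, IsCC T ∧ IsCyclic T ∧ Nat.card T = Fintype.card F + 1 ∧
      ∃ x ∈ T, orderOf x = 5 ∧ ∀ k : ℕ, ¬ 5 ∣ k → IsConj x (x ^ k) := by
  classical
  have ho : orderOf sigma = 2 := by
    have : Fact (Nat.Prime 2) := ⟨Nat.prime_two⟩
    exact orderOf_eq_prime (by rw [pow_two, h2]) h1
  have hcard := H202.Descent.card_fixed (F := F) ho
  let _ : Fintype (H966.Frob.fix sigma) := Fintype.ofFinite _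
  have hcard' : Fintype.card (H966.Frob.fix sigma) ^ 2 = Fintype.card F := by
    rw [← Nat.card_eq_fintype_card, ← Nat.card_eq_fintype_card]
    exact hcard.symm
  have hch : CharP (H966.Frob.fix sigma) 2 :=
    ((H966.Frob.fix sigma).subtype.charP_iff (H966.Frob.fix sigma).subtype.injective 2).2 inferInstance
  have hfin : Finite (PSp 2 F) := inferInstance
  obtain ⟨e⟩ := exists_equiv_fix 2 sigma C hC
  exact exists_cc_of_equiv e (by rw [hcard']) h5

end

end Cfsg.Agent.H226.R2
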