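import Cfsg.Agent.H61.GowThree
import Cfsg.Agent.H199.PslAut
import Cfsg.Agent.S2580

/-!
# The character `FC Ψ` of `GL_n(F)` induced from the stabiliser of a plane and the automorphisms (helper226)

`FC_conj`, `FC_map` (field automorphisms), `FC_it` (inverse transpose).
-/

set_option autoImplicit false

open Cfsg

namespace Cfsg.Agent.H226.R2

open Cfsg.Agent.Characters Cfsg.Agent.H53.HC Module Cfsg.Agent.H61.GowFlag Cfsg.Agent.H61.GowGlue
  Cfsg.Agent.H61.GowSigma Cfsg.Agent.H61.GowPlane Matrix Cfsg.Agent.H636.Gow Cfsg.Agent.H61.GowPsl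
  Cfsg.Agent.H61.GowThree Cfsg.Agent.H199.PslAut

universe u

section

variable {F : Type u} [Field F] {n k : ℕ}

/-- the image of a subspace under a field automorphism -/
def tws (σ : F ≃+* F) (W : Submodule F (Fin n → F)) : Submodule F (Fin n → F) where
  carrier := {v | (fun i => σ.symm (v i)) ∈ W}
  add_mem' := by
    intro a b ha hb
    have : (fun i => σ.symm ((a + b) i)) = (fun i => σ.symm (a i)) + fun i => σ.symm (b i) := by
      funext i
      simp
    rw [Set.mem_setOf_eq, this]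
    exact W.add_mem ha hb
  zero_mem' := by
    have : (fun i => σ.symm ((0 : Fin n → F) i)) = 0 := by
      funext i
      simp
    rw [Set.mem_setOf_eq, this]
    exact W.zero_mem
  smul_mem' := by
    intro c a ha
    have : (fun i => σ.symm ((c • a) i)) = (σ.symm c) • fun i => σ.symm (a i) := by
      funext i
      simp
    rw [Set.mem_setOf_eq, this]
    exact W.smul_mem _ ha

theorem mem_tws {σ : F ≃+* F} {W : Submodule F (Fin n → F)} {v : Fin n → F} :
    v ∈ tws σ W ↔ (fun i => σ.symm (v i)) ∈ W := Iff.rfl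

theorem tws_mem {σ : F ≃+* F} {W : Submodule F (Fin n → F)} {v : Fin n → F} (h : v ∈ W) :
    (fun i => σ (v i)) ∈ tws σ W := by
  rw [mem_tws]
  simpa using h

theorem tws_symm (σ : F ≃+* F) (W : Submodule F (Fin n → F)) : tws σ.symm (tws σ W) = W := by
  ext v
  rw [mem_tws, mem_tws]
  simp

theorem tws_symm' (σ : F ≃+* F) (W : Submodule F (Fin n → F)) : tws σ (tws σ.symm W) = W := by
  ext v
  rw [mem_tws, mem_tws]
  simp

/-- the coordinates -/
noncomputable def twE (σ : F ≃+* F) {W : Submodule F (Fin n → F)} (b : Basis (Fin k) F W) : tws σ W ≃ₗ[F] (Fin k → F) where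
  toFun v := fun i => σ (b.equivFun ⟨fun i => σ.symm (v.1 i), v.2⟩ i)
  map_add' := by
    intro v w
    funext i
    have : (⟨fun i => σ.symm ((v + w).1 i), (v + w).2⟩ : W) = ⟨fun i => σ.symm (v.1 i), v.2⟩ +
        ⟨fun i => σ.symm (w.1 i), w.2⟩ := by
      apply Subtype.ext
      funext j
      simp
    rw [this, map_add, Pi.add_apply, map_add]
    rfl
  map_smul' := by
    intro c v
    funext i
    have : (⟨fun i => σ.symm ((c • v).1 i), (c • v).2⟩ : W) = σ.symm c • ⟨fun i => σ.symm (v.1 i), v.2⟩ := by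
      apply Subtype.ext
      funext j
      simp
    rw [this, map_smul, Pi.smul_apply, smul_eq_mul, map_mul, RingEquiv.apply_symm_apply]
    rfl
  invFun x := ⟨fun i => σ ((b.equivFun.symm fun j => σ.symm (x j)).1 i), tws_mem (b.equivFun.symm fun j => σ.symm (x j)).2⟩
  left_inv := by
    intro v
    apply Subtype.ext
    funext i
    have h1 : (fun j => σ.symm (σ (b.equivFun ⟨fun i => σ.symm (v.1 i), v.2⟩ j))) =
        b.equivFun ⟨fun i => σ.symm (v.1 i), v.2⟩ := by
      funext j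
      rw [RingEquiv.symm_apply_apply]
    show σ ((b.equivFun.symm fun j => σ.symm (σ (b.equivFun ⟨fun i => σ.symm (v.1 i), v.2⟩ j))).1 i) = v.1 i
    rw [h1, LinearEquiv.symm_apply_apply, RingEquiv.apply_symm_apply]
  right_inv := by
    intro x
    funext i
    have h1 : (⟨fun i => σ.symm (σ ((b.equivFun.symm fun j => σ.symm (x j)).1 i)),
        tws_mem (σ := σ) (b.equivFun.symm fun j => σ.symm (x j)).2⟩ : W) = b.equivFun.symm fun j => σ.symm (x j) := by
      apply Subtype.ext
      funext j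
      show σ.symm (σ _) = _
      rw [RingEquiv.symm_apply_apply]
    show σ (b.equivFun (⟨fun i => σ.symm (σ ((b.equivFun.symm fun j => σ.symm (x j)).1 i)), _⟩ : W) i) = x i
    rw [h1, LinearEquiv.apply_symm_apply, RingEquiv.apply_symm_apply]

/-- the basis -/
noncomputable def twB (σ : F ≃+* F) {W : Submodule F (Fin n → F)} (b : Basis (Fin k) F W) : Basis (Fin k) F (tws σ W) :=
  Basis.ofEquivFun (twE σ b)

theorem twB_apply (σ : F ≃+* F) {W : Submodule F (Fin n → F)} (b : Basis (Fin k) F W) (j : Fin k) :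
    ((twB σ b j : tws σ W) : Fin n → F) = fun i => σ (((b j : W) : Fin n → F) i) := by
  have h1 : twB σ b j = (twE σ b).symm (Pi.single j 1) := by
    rw [twB, Basis.coe_ofEquivFun]
  have h2 : (fun i => σ.symm ((Pi.single j (1 : F) : Fin k → F) i)) = Pi.single j 1 := by
    funext i
    by_cases h : i = j
    · subst h; simp
    · simp [Pi.single_eq_of_ne h]
  have h3 : b.equivFun.symm (Pi.single j (1 : F)) = b j := by
    rw [LinearEquiv.symm_apply_eq]
    funext i
    rw [Basis.equivFun_self, Pi.single_apply]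
    by_cases h : i = j
    · subst h; simp
    · rw [if_neg h, if_neg (Ne.symm h)]
  rw [h1]
  show (fun i => σ ((b.equivFun.symm fun j' => σ.symm ((Pi.single j (1 : F) : Fin k → F) j')).1 i)) = _
  rw [h2, h3]

theorem twB_repr (σ : F ≃+* F) {W : Submodule F (Fin n → F)} (b : Basis (Fin k) F W) (v : W) (i : Fin k) :
    (twB σ b).repr ⟨fun i => σ (v.1 i), tws_mem v.2⟩ i = σ (b.repr v i) := by
  have h1 : (twB σ b).equivFun = twE σ b := by
    rw [twB, Basis.equivFun_ofEquivFun]
  have h2 := congrFun (congrArg (fun e : (tws σ W) ≃ₗ[F] (Fin k → F) => e ⟨fun i => σ (v.1 i), tws_mem v.2⟩) h1) i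
  rw [Basis.equivFun_apply] at h2
  rw [h2]
  show σ (b.equivFun (⟨fun i => σ.symm (σ (v.1 i)), _⟩ : W) i) = _
  have h3 : (⟨fun i => σ.symm (σ (v.1 i)), tws_mem (σ := σ) v.2⟩ : W) = v := by
    apply Subtype.ext
    funext j
    show σ.symm (σ (v.1 j)) = _
    rw [RingEquiv.symm_apply_apply]
  rw [h3, Basis.equivFun_apply]

theorem rho_map (σ : F ≃+* F) (g : GL (Fin n) F) (v : Fin n → F) :
    rhoGL F n (mapGL σ g) (fun i => σ (v i)) = fun i => σ (rhoGL F n g v i) := by
  rw [rhoGL_apply, rhoGL_apply, coe_mapGL]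
  funext i
  simp only [Matrix.mulVec, dotProduct, Matrix.map_apply, map_sum, map_mul]

theorem map_tws (σ : F ≃+* F) {g : GL (Fin n) F} {W : Submodule F (Fin n → F)}
    (h : W.map (rhoGL F n g : (Fin n → F) →ₗ[F] (Fin n → F)) = W) :
    (tws σ W).map (rhoGL F n (mapGL σ g) : (Fin n → F) →ₗ[F] (Fin n → F)) = tws σ W := by
  ext v
  constructor
  · rintro ⟨w, hw, rfl⟩
    have h1 : w = fun i => σ ((fun i => σ.symm (w i)) i) := by
      funext i
      simp
    have h2 : rhoGL F n (mapGL σ g) w = fun i => σ (rhoGL F n g (fun i => σ.symm (w i)) i) := by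
      conv_lhs => rw [h1]
      exact rho_map σ g _
    show rhoGL F n (mapGL σ g) w ∈ tws σ W
    rw [h2]
    apply tws_mem
    rw [← h]
    exact ⟨_, hw, rfl⟩
  · intro hv
    have h1 : (fun i => σ.symm (v i)) ∈ W.map (rhoGL F n g : (Fin n → F) →ₗ[F] (Fin n → F)) := by
      rw [h]; exact hv
    obtain ⟨w, hw, hw1⟩ := h1
    refine ⟨fun i => σ (w i), tws_mem hw, ?_⟩
    show rhoGL F n (mapGL σ g) (fun i => σ (w i)) = v
    rw [rho_map]
    have h2 : rhoGL F n g w = fun i => σ.symm (v i) := hw1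
    rw [h2]
    funext i
    simp

theorem map_tws_iff (σ : F ≃+* F) {g : GL (Fin n) F} {W : Submodule F (Fin n → F)} :
    (tws σ W).map (rhoGL F n (mapGL σ g) : (Fin n → F) →ₗ[F] (Fin n → F)) = tws σ W ↔
      W.map (rhoGL F n g : (Fin n → F) →ₗ[F] (Fin n → F)) = W := by
  refine ⟨fun h => ?_, map_tws σ⟩
  have h1 := map_tws σ.symm h
  rw [tws_symm] at h1
  have h2 : mapGL σ.symm (mapGL σ g) = g := by
    apply Units.ext
    rw [coe_mapGL, coe_mapGL, Matrix.map_map]
    ext i j
    simp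
  rwa [h2] at h1

/-- the matrices of corresponding automorphisms -/
theorem glE_twB (σ : F ≃+* F) {W : Submodule F (Fin n → F)} (b : Basis (Fin k) F W) (f : W ≃ₗ[F] W)
    (f' : tws σ W ≃ₗ[F] tws σ W)
    (h : ∀ w : W, f' ⟨fun i => σ (w.1 i), tws_mem w.2⟩ = ⟨fun i => σ ((f w).1 i), tws_mem (f w).2⟩) :
    glE (twB σ b) f' = mapGL σ (glE b f) := by
  apply Units.ext
  rw [coe_mapGL, coe_glE, coe_glE]
  ext i j
  rw [Matrix.map_apply, LinearMap.toMatrix_apply, LinearMap.toMatrix_apply]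
  have h1 : twB σ b j = ⟨fun i => σ ((b j).1 i), tws_mem (b j).2⟩ := Subtype.ext (twB_apply σ b j)
  have h2 : (f' : tws σ W →ₗ[F] tws σ W) (twB σ b j) = ⟨fun i => σ ((f (b j)).1 i), tws_mem (f (b j)).2⟩ := by
    rw [h1]
    exact h _
  rw [h2, twB_repr]
  rfl

theorem finrank_tws [Fintype F] (σ : F ≃+* F) (W : Submodule F (Fin n → F)) : finrank F (tws σ W) = finrank F W := by
  have b : Basis (Fin (finrank F W)) F W := finBasisOfFinrankEq F W rfl
  rw [finrank_eq_card_basis (twB σ b), Fintype.card_fin]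

/-- planes -/
def twP [Fintype F] (σ : F ≃+* F) : planes F n ≃ planes F n where
  toFun W := ⟨tws σ W.1, by
    show finrank F (tws σ W.1) = 2
    rw [finrank_tws]
    exact W.2⟩
  invFun W := ⟨tws σ.symm W.1, by
    show finrank F (tws σ.symm W.1) = 2
    rw [finrank_tws]
    exact W.2⟩
  left_inv W := Subtype.ext (tws_symm σ W.1)
  right_inv W := Subtype.ext (tws_symm' σ W.1)

/-- the induced character -/
noncomputable def FC [Fintype F] (n : ℕ) (Ψ : GL (Fin 2) F → ℂ) : GL (Fin n) F → ℂ :=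
  flagChar (rhoGL F n) (planes F n) Ψ

/-- **field automorphisms** -/
theorem FC_map [Fintype F] {Ψ : GL (Fin 2) F → ℂ} (hc : IsClassFunction _ Ψ) (σ : F ≃+* F)
    (hΨ : ∀ A, Ψ (mapGL σ A) = Ψ A) (g : GL (Fin n) F) : FC n Ψ (mapGL σ g) = FC n Ψ g := by
  classical
  unfold FC flagChar
  refine (Fintype.sum_equiv (twP σ) _ _ fun W => ?_).symm
  show flagTerm (rhoGL F n) Ψ g W.1 = flagTerm (rhoGL F n) Ψ (mapGL σ g) (tws σ W.1)
  by_cases h : W.1.map (rhoGL F n g : (Fin n → F) →ₗ[F] (Fin n → F)) = W.1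
  · rw [flagTerm_of _ _ h, flagTerm_of _ _ (map_tws σ h)]
    have b : Basis (Fin 2) F W.1 := finBasisOfFinrankEq F W.1 W.2
    rw [cl_eq hc b, cl_eq hc (twB σ b), glE_twB σ b (res (rhoGL F n g) W.1 h), hΨ]
    intro w
    apply Subtype.ext
    exact rho_map σ g w.1
  · unfold flagTerm
    rw [dif_neg h, dif_neg (fun h1 => h ((map_tws_iff σ).1 h1))]

/-- conjugation -/
theorem FC_conj [Fintype F] {Ψ : GL (Fin 2) F → ℂ} (hc : IsClassFunction _ Ψ) (x g : GL (Fin n) F) :
    FC n Ψ (x * g * x⁻¹) = FC n Ψ g := by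
  classical
  unfold FC flagChar
  have hΩ : ∀ y : GL (Fin n) F, ∀ W ∈ planes F n, W.map (rhoGL F n y : (Fin n → F) →ₗ[F] (Fin n → F)) ∈ planes F n := by
    intro y W hW
    show finrank F _ = 2
    have hW' : finrank F W = 2 := hW
    rw [← hW']
    exact LinearEquiv.finrank_map_eq (rhoGL F n y) W
  let _ := subAct (rhoGL F n) (planes F n) hΩ
  refine (Fintype.sum_equiv (MulAction.toPerm x) _ _ fun W => ?_).symm
  exact (flagTerm_conj (rhoGL F n) hc x g W.1).symm

/-- **inverse transpose** -/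
theorem FC_it [Fintype F] {Ψ : GL (Fin 2) F → ℂ} (hc : IsClassFunction _ Ψ) (g : GL (Fin n) F) :
    FC n Ψ (itGL g) = FC n Ψ g⁻¹ := by
  obtain ⟨c, hc1⟩ := Cfsg.Agent.S2580.result ((g⁻¹ : GL (Fin n) F) : Matrix (Fin n) (Fin n) F)
  have h1 : itGL g = c * g⁻¹ * c⁻¹ := by
    rw [eq_mul_inv_iff_mul_eq]
    apply Units.ext
    rw [Units.val_mul, Units.val_mul, coe_itGL]
    exact hc1.symm
  rw [h1, FC_conj hc]

end

end Cfsg.Agent.H226.R2
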