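import Cfsg.Agent.H226.R2.FC
import Cfsg.Agent.H226.R2.Base
import Cfsg.Agent.Lib.FieldAutCard

/-!
# `Row2` for `PSL_n(q)`, `q` even, `n ≥ 3` (helper226)
-/

set_option autoImplicit false

open Cfsg

namespace Cfsg.Agent.H226.R2

open scoped ComplexConjugate

open Cfsg.Agent.Characters Cfsg.Agent.H53.HC Module Cfsg.Agent.H61.GowFlag Cfsg.Agent.H61.GowGlue
  Cfsg.Agent.H61.GowSigma Cfsg.Agent.H61.GowPlane Matrix Cfsg.Agent.H636.Gow Cfsg.Agent.H61.GowPsl
  Cfsg.Agent.H61.GowThree Cfsg.Agent.H199.PslAut Cfsg.Agent.H770.CY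

open Cfsg.Agent.ClassicalGeometry.AutPSL.Root (pr pr_surjective)
open Cfsg.Agent.ClassicalGeometry.AutPSL.Auto (cj fld itr coe_cj coe_itr coe_fld_apply)

universe u

/-! ### general facts -/

theorem index_dvd_of_cover {A R : Type*} [Group A] [Finite A] [Group R] (f : R →* A) (Γ : Subgroup A)
    (h : ∀ a : A, ∃ r : R, ∃ s ∈ Γ, a = f r * s) : Γ.index ∣ Nat.card R := by
  let _ : MulAction R (A ⧸ Γ) := MulAction.compHom _ f
  have h1 : MulAction.orbit R (QuotientGroup.mk (1 : A) : A ⧸ Γ) = Set.univ := by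
    apply Set.eq_univ_of_forall
    intro x
    obtain ⟨a, rfl⟩ := QuotientGroup.mk_surjective x
    obtain ⟨r, s, hs, rfl⟩ := h a
    refine ⟨r, ?_⟩
    show (QuotientGroup.mk (f r * 1) : A ⧸ Γ) = QuotientGroup.mk (f r * s)
    rw [QuotientGroup.eq, mul_one, inv_mul_cancel_left]
    exact hs
  have h2 := MulAction.index_stabilizer R (QuotientGroup.mk (1 : A) : A ⧸ Γ)
  rw [h1, Set.ncard_univ] at h2
  have h3 : Γ.index = (MulAction.stabilizer R (QuotientGroup.mk (1 : A) : A ⧸ Γ)).index := h2.symm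
  rw [h3]
  exact Subgroup.index_dvd_card _

section

variable {F : Type u} [Field F] {n k : ℕ}

theorem odd_ringAut [Fintype F] [CharP F 2] (h : 3 ∣ Fintype.card F + 1) : Odd (Nat.card (F ≃+* F)) := by
  have hp : Fact (Nat.Prime 2) := ⟨Nat.prime_two⟩
  obtain ⟨k, -, hk⟩ := FiniteField.card F 2
  have h1 : Nat.card (F ≃+* F) = k := Cfsg.Agent.Lib.FieldAutCard.card_ringAut (p := 2) k.pos
    hk
  rw [h1]
  by_contra h2
  rw [Nat.not_odd_iff_even] at h2
  obtain ⟨j, hj⟩ := h2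
  rw [hk, hj, ← two_mul, pow_mul] at h
  have h3 : (2 ^ 2) ^ j % 3 = 1 := by
    rw [Nat.pow_mod]
    norm_num
  omega

theorem toGL_cj (g : GL (Fin n) F) (s : Matrix.SpecialLinearGroup (Fin n) F) :
    Matrix.SpecialLinearGroup.toGL (cj g s) = g * Matrix.SpecialLinearGroup.toGL s * g⁻¹ := by
  apply Units.ext
  rw [Units.val_mul, Units.val_mul]
  exact coe_cj g s

theorem toGL_fld (σ : F ≃+* F) (s : Matrix.SpecialLinearGroup (Fin n) F) :
    Matrix.SpecialLinearGroup.toGL (fld σ s) = mapGL σ (Matrix.SpecialLinearGroup.toGL s) := by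
  apply Units.ext
  rfl

theorem toGL_itr (s : Matrix.SpecialLinearGroup (Fin n) F) :
    Matrix.SpecialLinearGroup.toGL (itr s) = itGL (Matrix.SpecialLinearGroup.toGL s) := by
  apply Units.ext
  rw [coe_itGL, ← map_inv]
  exact coe_itr s

theorem rho_toGL (s : Matrix.SpecialLinearGroup (Fin n) F) :
    rhoGL F n (Matrix.SpecialLinearGroup.toGL s) = Matrix.SpecialLinearGroup.toLin' s := by
  ext1 v
  rw [rhoGL_apply, Matrix.SpecialLinearGroup.toLin'_apply, Matrix.toLin'_apply]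
  rfl

section stab

variable [Fintype F] {Ψ : GL (Fin 2) F → ℂ} (hc : IsClassFunction _ Ψ)
  {χ : Matrix.ProjectiveSpecialLinearGroup (Fin n) F → ℂ}
  (hval : ∀ s, χ (pr s) = FC n Ψ (Matrix.SpecialLinearGroup.toGL s))

include hc hval

theorem Psi_mem_stab (g : GL (Fin n) F) : Psi n F g ∈ stab χ := by
  intro x
  obtain ⟨s, rfl⟩ := pr_surjective x
  rw [Psi_pr, hval, hval, toGL_cj, FC_conj hc]

theorem phi_mem_stab (σ : F ≃+* F) (hΨ : ∀ A, Ψ (mapGL σ A) = Ψ A) : phi n F σ ∈ stab χ := by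
  intro x
  obtain ⟨s, rfl⟩ := pr_surjective x
  rw [phi_pr, hval, hval, toGL_fld, FC_map hc σ hΨ]

theorem iot_mem_stab (hχ : IsCharacter _ χ) (hrat : ∀ g, ∃ q : ℚ, χ g = q) : iot n F ∈ stab χ := by
  intro x
  have h1 : χ x⁻¹ = χ x := by
    rw [Core.isCharacter_apply_inv hχ]
    obtain ⟨q, hq⟩ := hrat x
    rw [hq]
    exact map_ratCast (starRingEnd ℂ) q
  rw [← h1]
  obtain ⟨s, rfl⟩ := pr_surjective x
  rw [iot_pr, hval, toGL_itr, FC_it hc, ← map_inv, ← map_inv, hval]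

/-- the index of the stabiliser divides the order of the group of field automorphisms -/
theorem index_stab_dvd (hn : 3 ≤ n) (hχ : IsCharacter _ χ) (hrat : ∀ g, ∃ q : ℚ, χ g = q) :
    (stab χ).index ∣ Nat.card (F ≃+* F) := by
  have : Finite (Matrix.ProjectiveSpecialLinearGroup (Fin n) F) := inferInstance
  have : Finite (MulAut (Matrix.ProjectiveSpecialLinearGroup (Fin n) F)) :=
    Finite.of_injective (fun e => (e : _ → _)) DFunLike.coe_injective
  apply index_dvd_of_cover (phi n F)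
  intro α
  rcases exists_form (by omega) α with ⟨g, σ, rfl⟩ | ⟨-, g, σ, rfl⟩
  · refine ⟨σ, Psi n F (mapGL σ⁻¹ g), Psi_mem_stab hc hval _, ?_⟩
    rw [← phi_conj_Psi]
    rw [map_inv]
    group
  · refine ⟨σ, Psi n F (mapGL σ⁻¹ g) * iot n F, mul_mem (Psi_mem_stab hc hval _) (iot_mem_stab hc hval hχ hrat), ?_⟩
    rw [← phi_conj_Psi]
    rw [map_inv]
    group

theorem stab_eq_top (hn : 3 ≤ n) (hχ : IsCharacter _ χ) (hrat : ∀ g, ∃ q : ℚ, χ g = q)
    (hΨ : ∀ (σ : F ≃+* F) (A), Ψ (mapGL σ A) = Ψ A) : stab χ = ⊤ := by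
  rw [eq_top_iff]
  rintro α -
  rcases exists_form (by omega) α with ⟨g, σ, rfl⟩ | ⟨-, g, σ, rfl⟩
  · exact mul_mem (Psi_mem_stab hc hval _) (phi_mem_stab hc hval _ (hΨ σ))
  · exact mul_mem (mul_mem (Psi_mem_stab hc hval _) (phi_mem_stab hc hval _ (hΨ σ))) (iot_mem_stab hc hval hχ hrat)

end stab

/-! ### field automorphisms and flag characters, any dimension -/

theorem flag_map [Fintype F] (Ω : Set (Submodule F (Fin n → F))) [Fintype Ω]
    (hΩ : ∀ W, W ∈ Ω ↔ finrank F W = k) {Ψ Ψ' : GL (Fin k) F → ℂ} (hc : IsClassFunction _ Ψ)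
    (hc' : IsClassFunction _ Ψ') (σ : F ≃+* F) (hΨ : ∀ A, Ψ (mapGL σ A) = Ψ' A) (g : GL (Fin n) F) :
    flagChar (rhoGL F n) Ω Ψ (mapGL σ g) = flagChar (rhoGL F n) Ω Ψ' g := by
  classical
  unfold flagChar
  let e : Ω ≃ Ω :=
    { toFun := fun W => ⟨tws σ W.1, by rw [hΩ, finrank_tws]; exact (hΩ _).1 W.2⟩
      invFun := fun W => ⟨tws σ.symm W.1, by rw [hΩ, finrank_tws]; exact (hΩ _).1 W.2⟩
      left_inv := fun W => Subtype.ext (tws_symm σ W.1)
      right_inv := fun W => Subtype.ext (tws_symm' σ W.1) }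
  refine (Fintype.sum_equiv e _ _ fun W => ?_).symm
  show flagTerm (rhoGL F n) Ψ' g W.1 = flagTerm (rhoGL F n) Ψ (mapGL σ g) (tws σ W.1)
  by_cases h : W.1.map (rhoGL F n g : (Fin n → F) →ₗ[F] (Fin n → F)) = W.1
  · rw [flagTerm_of _ _ h, flagTerm_of _ _ (map_tws σ h)]
    have b : Basis (Fin k) F W.1 := finBasisOfFinrankEq F W.1 ((hΩ _).1 W.2)
    rw [cl_eq hc' b, cl_eq hc (twB σ b), glE_twB σ b (res (rhoGL F n g) W.1 h), hΨ]
    intro w
    apply Subtype.ext
    exact rho_map σ g w.1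
  · unfold flagTerm
    rw [dif_neg h, dif_neg (fun h1 => h ((map_tws_iff σ).1 h1))]

theorem det_mapGL (σ : F ≃+* F) (A : GL (Fin n) F) :
    GeneralLinearGroup.det (mapGL σ A) = Units.map (σ : F →* F) (GeneralLinearGroup.det A) := by
  apply Units.ext
  rw [GeneralLinearGroup.val_det_apply, coe_mapGL, Units.coe_map, GeneralLinearGroup.val_det_apply]
  exact (RingHom.map_det (σ : F →+* F) (A : Matrix (Fin n) (Fin n) F)).symm

/-- `sigma μ` and field automorphisms -/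
theorem sigma_map [Fintype F] (μ : Fˣ →* ℂˣ) (σ : F ≃+* F) (A : GL (Fin 2) F) :
    sigma μ (mapGL σ A) = sigma (μ.comp (Units.map (σ : F →* F))) A := by
  unfold sigma
  rw [det_mapGL, flag_map (lines F) (fun W => Iff.rfl) (Core.isIrr_isClassFunction (lin_isIrr μ 1))
    (Core.isIrr_isClassFunction (lin_isIrr (μ.comp (Units.map (σ : F →* F))) 1)) σ]
  · rfl
  · intro A
    unfold lin
    rw [det_mapGL]
    rfl

theorem flagChar_star [Fintype F] {V : Type*} [AddCommGroup V] [Module F V] {G : Type*} [Group G]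
    (ρ : G →* (V ≃ₗ[F] V)) (Ω : Set (Submodule F V)) [Fintype Ω] {Ψ Ψ' : GL (Fin k) F → ℂ}
    (h : ∀ A, Ψ' A = conj (Ψ A)) (g : G) : flagChar ρ Ω Ψ' g = conj (flagChar ρ Ω Ψ g) := by
  classical
  unfold flagChar
  rw [map_sum]
  refine Finset.sum_congr rfl fun W _ => ?_
  unfold flagTerm
  split_ifs with h1
  · unfold cl
    split_ifs with h2
    · exact h _
    · rw [map_zero]
  · rw [map_zero]

theorem sigma_inv [Fintype F] (μ : Fˣ →* ℂˣ) (h3 : μ ^ 3 = 1) (hμ : μ ≠ 1) (A : GL (Fin 2) F) :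
    sigma μ⁻¹ A = sigma μ A := by
  have hv : ∀ x : Fˣ, ((μ⁻¹ x : ℂˣ) : ℂ) = conj ((μ x : ℂˣ) : ℂ) := by
    intro x
    have h1 : ((μ x : ℂˣ) : ℂ) ^ 3 = 1 := by
      have := DFunLike.congr_fun h3 x
      rw [MonoidHom.pow_apply, MonoidHom.one_apply] at this
      rw [← Units.val_pow_eq_pow_val, this, Units.val_one]
    have h2 : ‖((μ x : ℂˣ) : ℂ)‖ = 1 := Complex.norm_eq_one_of_pow_eq_one h1 (by norm_num)
    rw [MonoidHom.inv_apply, Units.val_inv_eq_inv_val, Complex.inv_eq_conj h2]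
  have h1 : sigma μ⁻¹ A = conj (sigma μ A) := by
    unfold sigma
    rw [map_mul, hv, flagChar_star (rhoGL F 2) (lines F) (Ψ := lin μ 1) (Ψ' := lin μ⁻¹ 1) (fun A => hv _)]
  rw [h1]
  obtain ⟨q, hq⟩ := sigma_rat μ h3 hμ A
  rw [hq]
  exact map_ratCast (starRingEnd ℂ) q

theorem mu_comp [Fintype F] (μ : Fˣ →* ℂˣ) (h3 : μ ^ 3 = 1) (hμ : μ ≠ 1) (σ : F ≃+* F) :
    μ.comp (Units.map (σ : F →* F)) = μ ∨ μ.comp (Units.map (σ : F →* F)) = μ⁻¹ := by
  obtain ⟨γ, hγ⟩ := IsCyclic.exists_generator (α := Fˣ)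
  have hext : ∀ f g : Fˣ →* ℂˣ, f γ = g γ → f = g := by
    intro f g h
    ext1 x
    obtain ⟨k, rfl⟩ := hγ x
    change f (γ ^ k) = g (γ ^ k)
    rw [map_zpow, map_zpow, h]
  have h4 : ∀ x, μ x ^ 3 = 1 := by
    intro x
    have := DFunLike.congr_fun h3 x
    rwa [MonoidHom.pow_apply, MonoidHom.one_apply] at this
  have hne : μ γ ≠ 1 := fun h => hμ (hext μ 1 (by rw [h, MonoidHom.one_apply]))
  obtain ⟨k, hk⟩ := hγ (Units.map (σ : F →* F) γ)
  have h5 : μ (Units.map (σ : F →* F) γ) = μ γ ^ k := by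
    rw [← map_zpow]
    exact congrArg μ hk.symm
  have h6 : μ (Units.map (σ : F →* F) γ) ≠ 1 := by
    intro h
    apply hμ
    obtain ⟨j, hj⟩ := hγ (Units.map (σ.symm : F →* F) γ)
    have h7 : Units.map (σ : F →* F) (Units.map (σ.symm : F →* F) γ) = γ := by
      apply Units.ext
      show σ (σ.symm γ) = γ
      rw [RingEquiv.apply_symm_apply]
    have h8 : μ γ = 1 := by
      have hj' : γ ^ j = Units.map (σ.symm : F →* F) γ := hj
      rw [← h7, ← hj', map_zpow, map_zpow, h, _root_.one_zpow]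
    exact absurd h8 hne
  have h7 : k % 3 = 0 ∨ k % 3 = 1 ∨ k % 3 = 2 := by omega
  have h8 : μ γ ^ k = μ γ ^ (k % 3) := by
    have e : (μ γ) ^ (3 : ℤ) = 1 := by
      have := h4 γ
      exact_mod_cast this
    conv_lhs => rw [← Int.mul_ediv_add_emod k 3]
    rw [_root_.zpow_add, _root_.zpow_mul, e, _root_.one_zpow, one_mul]
  rcases h7 with h7 | h7 | h7
  · rw [h5, h8, h7, zpow_zero] at h6
    exact absurd rfl h6
  · left
    apply hext
    show μ (Units.map (σ : F →* F) γ) = μ γ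
    rw [h5, h8, h7, zpow_one]
  · right
    apply hext
    show μ (Units.map (σ : F →* F) γ) = μ⁻¹ γ
    rw [h5, h8, h7, MonoidHom.inv_apply, eq_inv_iff_mul_eq_one]
    have := h4 γ
    rw [pow_succ] at this
    exact_mod_cast this

/-- **`sigma μ` is invariant under field automorphisms** -/
theorem sigma_field [Fintype F] (μ : Fˣ →* ℂˣ) (h3 : μ ^ 3 = 1) (hμ : μ ≠ 1) (σ : F ≃+* F) (A : GL (Fin 2) F) :
    sigma μ (mapGL σ A) = sigma μ A := by
  rw [sigma_map]
  rcases mu_comp μ h3 hμ σ with h | h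
  · rw [h]
  · rw [h, sigma_inv μ h3 hμ]

/-! ### the character of `PSL_n` -/

theorem exists_chi [Fintype F] (hF : Even (Fintype.card F)) (hn : 3 ≤ n)
    {Ψ : GL (Fin 2) F → ℂ} (hΨ : IsIrrCharacter _ Ψ) (hrat : ∀ A, ∃ q : ℚ, Ψ A = q)
    (hs : ∀ c : Fˣ, Ψ (GeneralLinearGroup.scalar (Fin 2) c) = Ψ 1) (hodd : ∃ d : ℕ, Odd d ∧ Ψ 1 = d)
    (hirr : IsIrrCharacter (Matrix.SpecialLinearGroup (Fin n) F)
      (flagChar (Matrix.SpecialLinearGroup.toLin' (R := F)) (planes F n) Ψ)) :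
    ∃ χ : Matrix.ProjectiveSpecialLinearGroup (Fin n) F → ℂ, IsIrrCharacter _ χ ∧ χ ≠ 1 ∧
      (∃ d : ℕ, Odd d ∧ χ 1 = d) ∧ (∀ g, ∃ q : ℚ, χ g = q) ∧
      ∀ s, χ (pr s) = FC n Ψ (Matrix.SpecialLinearGroup.toGL s) := by
  classical
  have : Finite (Matrix.SpecialLinearGroup (Fin n) F) := inferInstance
  let _ : Fintype (Subgroup.center (Matrix.SpecialLinearGroup (Fin n) F)) := Fintype.ofFinite _
  obtain ⟨d, hd, hd1⟩ := hodd
  have hcf := Core.isIrr_isClassFunction hΨ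
  have hone : flagChar (Matrix.SpecialLinearGroup.toLin' (n := Fin n) (R := F)) (planes F n) Ψ 1 =
      ((Nat.card (planes F n) * d : ℕ) : ℂ) := by
    rw [flagChar_one (Matrix.SpecialLinearGroup.toLin' (n := Fin n) (R := F)) (planes F n) hcf (fun W hW => hW), hd1]
    push_cast
    rfl
  have hpos : 0 < Nat.card (planes F n) := lt_trans zero_lt_one (one_lt_card_planes hn)
  have hdpos : 0 < d := hd.pos
  obtain ⟨χ, hχ⟩ := Blocks.Deflate.exists_deflation (Subgroup.center (Matrix.SpecialLinearGroup (Fin n) F)) _ hirr (by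
    rw [Finset.sum_congr rfl (g := fun _ => flagChar (Matrix.SpecialLinearGroup.toLin' (n := Fin n) (R := F)) (planes F n) Ψ 1)
      (fun z _ => ?_)]
    · rw [Finset.sum_const, hone, nsmul_eq_mul, ← Nat.cast_mul, Nat.cast_ne_zero]
      exact Nat.mul_ne_zero (Finset.card_ne_zero_of_mem (Finset.mem_univ 1)) (Nat.mul_ne_zero hpos.ne' hdpos.ne')
    · obtain ⟨r, hr, hz⟩ := (Matrix.SpecialLinearGroup.mem_center_iff).1 z.2
      have hr0 : r ≠ 0 := by
        rintro rfl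
        rw [Fintype.card_fin, zero_pow (by omega)] at hr
        exact zero_ne_one hr
      refine flagChar_scalar (Matrix.SpecialLinearGroup.toLin' (n := Fin n) (R := F)) (planes F n) hcf (fun W hW => hW)
        (c := Units.mk0 r hr0) (fun v => ?_) (hs _)
      rw [Matrix.SpecialLinearGroup.toLin'_apply, ← hz, Matrix.toLin'_apply, Matrix.scalar_apply]
      ext i
      rw [Matrix.mulVec_diagonal]
      rfl)
  have hval : ∀ g, flagChar (Matrix.SpecialLinearGroup.toLin' (n := Fin n) (R := F)) (planes F n) Ψ g =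
      (χ : (Matrix.SpecialLinearGroup (Fin n) F ⧸ Subgroup.center (Matrix.SpecialLinearGroup (Fin n) F)) → ℂ)
        (QuotientGroup.mk g) := fun g => congrFun hχ g
  refine ⟨χ, χ.2, ?_, ⟨Nat.card (planes F n) * d, (odd_card_planes hF (by omega)).mul hd, ?_⟩, ?_, ?_⟩
  · intro h
    have h1 := hval 1
    rw [hone, h, Pi.one_apply, ← Nat.cast_one, Nat.cast_inj] at h1
    have := one_lt_card_planes (F := F) hn
    have h2 := Nat.eq_one_of_mul_eq_one_right h1
    omega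
  · have h1 := hval 1
    rw [hone] at h1
    exact h1.symm
  · intro g
    obtain ⟨g, rfl⟩ := QuotientGroup.mk_surjective g
    obtain ⟨q, hq⟩ := flagChar_mem (Matrix.SpecialLinearGroup.toLin' (n := Fin n) (R := F)) (planes F n)
      (algebraMap ℚ ℂ).range (Ψ := Ψ) (fun A => by
        obtain ⟨q, hq⟩ := hrat A
        exact ⟨q, by rw [hq]; rfl⟩) g
    refine ⟨q, ?_⟩
    have h1 := hval g
    rw [← hq] at h1
    exact h1.symm
  · intro s
    have h1 := hval s
    rw [← flagChar_congr (rhoGL F n) (Matrix.SpecialLinearGroup.toLin' (n := Fin n) (R := F)) (planes F n) Ψ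
      (rho_toGL s)] at h1
    exact h1.symm

/-- `n ≥ 4`, `q ≡ 1 (mod 3)` -/
theorem row2_psl_one_mod [Fintype F] (hF : Even (Fintype.card F)) (hn : 4 ≤ n) (h : 3 ∣ Fintype.card F - 1) :
    Row2 (Matrix.ProjectiveSpecialLinearGroup (Fin n) F) := by
  obtain ⟨μ, h3, hμ⟩ := exists_mu h
  have : Finite (Matrix.SpecialLinearGroup (Fin n) F) := inferInstance
  let _ : Fintype (Matrix.SpecialLinearGroup (Fin n) F) := Fintype.ofFinite _
  have : Finite (Matrix.ProjectiveSpecialLinearGroup (Fin n) F) := inferInstance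
  obtain ⟨χ, h1, h2, h4, h5, h6⟩ := exists_chi hF (show 3 ≤ n by omega) (sigma_isIrr μ hμ) (sigma_rat μ h3 hμ)
    (sigma_scalar_one h3) ⟨_, odd_card_lines hF, sigma_one μ⟩ (isIrr_sigma μ h3 hμ hn _ slSurj)
  refine row2_of_stab h1 h2 h4 h5 ?_
  rw [stab_eq_top (Core.isIrr_isClassFunction (sigma_isIrr μ hμ)) h6 (by omega) (Core.isIrr_isCharacter h1) h5
    (sigma_field μ h3 hμ), Subgroup.index_top]
  exact odd_one

/-- `n ≥ 3`, `q ≡ 2 (mod 3)` -/
theorem row2_psl_two_mod [Fintype F] [CharP F 2] (hn : 3 ≤ n) (h : 3 ∣ Fintype.card F + 1) :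
    Row2 (Matrix.ProjectiveSpecialLinearGroup (Fin n) F) := by
  obtain ⟨Ψ, h1, h2, h3, h4, h5⟩ := exists_cusp h
  have : Finite (Matrix.SpecialLinearGroup (Fin n) F) := inferInstance
  let _ : Fintype (Matrix.SpecialLinearGroup (Fin n) F) := Fintype.ofFinite _
  have : Finite (Matrix.ProjectiveSpecialLinearGroup (Fin n) F) := inferInstance
  obtain ⟨χ, k1, k2, k3, k4, k5⟩ := exists_chi even_card hn h1 h3 h4 h5 (isIrr_cusp hn _ slSurj h1 h2)
  exact row2_of_stab k1 k2 k3 k4 (odd_of_dvd (index_stab_dvd (Core.isIrr_isClassFunction h1) k5 hn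
    (Core.isIrr_isCharacter k1) k4) (odd_ringAut h))

end

end Cfsg.Agent.H226.R2
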