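import Cfsg.Agent.H226.R2.Base

/-!
# `Row2` from a generalized character of norm three (helper226)

* `row2_of_pgroup` : it is enough to treat the `2`-subgroups of a subgroup of odd index;
* `row2_of_norm_three` : `ψ` rational, odd degree, `[ψ, 1] = 0`, `[ψ, ψ] ≤ 3`, `Θ` rational with `3 ∤ [Θ, ψ]`,
  `stab ψ` of odd index.
-/

set_option autoImplicit false

namespace Cfsg.Agent.H226.R2

open scoped ComplexConjugate

open Cfsg Cfsg.Agent.Characters.Core Cfsg.Agent.Characters Cfsg.Agent.H636.Gow Cfsg.Agent.H770.CY MulAction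
open Cfsg.Agent.H707.OddLift

universe u v

theorem row2_of_pgroup {S : Type u} [Group S] [Finite S] {Γ : Subgroup (MulAut S)} (hi : Odd Γ.index)
    (h : ∀ B : Subgroup (MulAut S), IsPGroup 2 B → B ≤ Γ → RatInv S B) : Row2 S := by
  intro B hB
  obtain ⟨a, ha⟩ := exists_conj_le Γ B hB hi
  have hB' : IsPGroup 2 (B.map (MulAut.conj a⁻¹).toMonoidHom) := hB.map _
  have hB'le : B.map (MulAut.conj a⁻¹).toMonoidHom ≤ Γ := by
    rintro _ ⟨b, hb, rfl⟩
    obtain ⟨c, hc, hcb⟩ := ha hb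
    change a * c * a⁻¹ = b at hcb
    change a⁻¹ * b * (a⁻¹)⁻¹ ∈ Γ
    rw [← hcb]
    have : a⁻¹ * (a * c * a⁻¹) * (a⁻¹)⁻¹ = c := by group
    rw [this]
    exact hc
  have h4 := (h _ hB' hB'le).conj a
  refine (h4.mono ?_).exists_irr
  intro b hb
  refine ⟨a⁻¹ * b * (a⁻¹)⁻¹, ⟨b, hb, rfl⟩, ?_⟩
  change a * (a⁻¹ * b * (a⁻¹)⁻¹) * a⁻¹ = b
  group

section

variable {G : Type u} [Group G] [Fintype G]

open Cfsg.Agent.H707.Norm Cfsg.Agent.H707.Orbits

attribute [local instance] irrAction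

theorem exists_fixed_three {ψ : G → ℂ} (hψ : IsGeneralizedCharacter G ψ) (hrat : ∀ g : G, ∃ q : ℚ, ψ g = q)
    (h1 : classInner ψ 1 = 0) (hodd : ∃ k : ℤ, Odd k ∧ ψ 1 = k) {n : ℕ} (hn : classInner ψ ψ = n) (hn3 : n ≤ 3)
    {Θ : G → ℂ} (hΘ : IsGeneralizedCharacter G Θ) (hΘr : ∀ g : G, ∃ q : ℚ, Θ g = q)
    (h3 : ∀ k : ℤ, classInner Θ ψ ≠ 3 * k) :
    ∃ χ : IrrCharacter G, OddDeg (χ : G → ℂ) ∧ (∃ k : ℤ, Odd k ∧ classInner ψ (χ : G → ℂ) = k) ∧
      ∀ σ : ℂ ≃+* ℂ, σ • χ = χ := by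
  classical
  by_contra hG
  obtain ⟨S, hS, hS1, hS2, hS3⟩ := exists_odd_supp hψ hrat h1 hodd
  obtain ⟨h2, h2a, h2b⟩ := hS3 n hn
  -- no element is fixed
  have hmove : ∀ χ ∈ S, ∃ σ : ℂ ≃+* ℂ, σ • χ ≠ χ := by
    intro χ hχ
    by_contra hcon
    push Not at hcon
    exact hG ⟨χ, (hS1 χ hχ).2.1, (hS1 χ hχ).2.2, hcon⟩
  have hcard : S.card = 3 := by
    obtain ⟨k, hk⟩ := hS
    have : S.card ≠ 1 := by
      intro h
      obtain ⟨χ, rfl⟩ := Finset.card_eq_one.1 h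
      obtain ⟨σ, hσ⟩ := hmove χ (Finset.mem_singleton_self χ)
      exact hσ (Finset.mem_singleton.1 (hS2 σ χ (Finset.mem_singleton_self χ)))
    omega
  obtain ⟨a, ha⟩ : S.Nonempty := Finset.card_pos.1 (by omega)
  -- all elements are conjugate to `a`
  have horb : ∀ b ∈ S, ∃ σ : ℂ ≃+* ℂ, σ • a = b := by
    intro b hb
    by_contra hcon
    push Not at hcon
    obtain ⟨σ, hσ⟩ := hmove a ha
    have hba : a ≠ b := by
      have := hcon 1
      rwa [one_smul] at this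
    have hS' : S = {a, σ • a, b} := by
      symm
      apply Finset.eq_of_subset_of_card_le
      · intro x hx
        rw [Finset.mem_insert, Finset.mem_insert, Finset.mem_singleton] at hx
        rcases hx with rfl | rfl | rfl
        · exact ha
        · exact hS2 σ a ha
        · exact hb
      · rw [hcard, Finset.card_insert_of_notMem, Finset.card_insert_of_notMem, Finset.card_singleton]
        · rw [Finset.mem_singleton]
          exact hcon σ
        · rw [Finset.mem_insert, Finset.mem_singleton, not_or]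
          exact ⟨hσ.symm, hba⟩
    obtain ⟨τ, hτ⟩ := hmove b hb
    have h4 := hS2 τ b hb
    rw [hS', Finset.mem_insert, Finset.mem_insert, Finset.mem_singleton] at h4
    rcases h4 with h4 | h4 | h4
    · exact hcon τ⁻¹ (by rw [← h4, inv_smul_smul])
    · exact hcon (τ⁻¹ * σ) (by rw [mul_smul, ← h4, inv_smul_smul])
    · exact hτ h4
  have hn' : S.card = n := by omega
  -- all multiplicities are equal
  have hm : ∀ b ∈ S, classInner ψ (b : G → ℂ) = classInner ψ (a : G → ℂ) := by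
    intro b hb
    obtain ⟨σ, rfl⟩ := horb b hb
    rw [classInner_galois_right hrat]
    rcases h2a hn' a ha with h | h <;> rw [h] <;> simp
  obtain ⟨t, ht⟩ : ∃ t : ℤ, classInner Θ (a : G → ℂ) = t := by
    have := finite_irr (G := G)
    have := Fintype.ofFinite (IrrCharacter G)
    obtain ⟨m, hm⟩ := isGeneralizedCharacter_iff.1 hΘ
    exact ⟨m a, coeff_eq hm a⟩
  have ht' : ∀ b ∈ S, classInner Θ (b : G → ℂ) = t := by
    intro b hb
    obtain ⟨σ, rfl⟩ := horb b hb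
    rw [classInner_galois_right hΘr, ht, map_intCast]
  have h5 : classInner Θ ψ = ∑ b ∈ S, conj (classInner ψ (b : G → ℂ)) * classInner Θ (b : G → ℂ) := by
    conv_lhs => rw [h2b hn']
    rw [classInner_sum_right]
    refine Finset.sum_congr rfl fun b _ => ?_
    rw [classInner_smul_right]
  rw [Finset.sum_congr rfl (fun b hb => by rw [hm b hb, ht' b hb]), Finset.sum_const, hcard] at h5
  rcases h2a hn' a ha with h | h
  · rw [h] at h5
    apply h3 t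
    rw [h5]; simp
  · rw [h] at h5
    apply h3 (-t)
    rw [h5]; simp

/-- the `2`-groups of automorphisms fixing `ψ` -/
theorem ratInv_of_norm_three {ψ : G → ℂ} (hψ : IsGeneralizedCharacter G ψ) (hrat : ∀ g : G, ∃ q : ℚ, ψ g = q)
    (h1 : classInner ψ 1 = 0) (hodd : ∃ k : ℤ, Odd k ∧ ψ 1 = k) {n : ℕ} (hn : classInner ψ ψ = n) (hn3 : n ≤ 3)
    {Θ : G → ℂ} (hΘ : IsGeneralizedCharacter G Θ) (hΘr : ∀ g : G, ∃ q : ℚ, Θ g = q)
    (h3 : ∀ k : ℤ, classInner Θ ψ ≠ 3 * k) (B : Subgroup (MulAut G)) (hB : IsPGroup 2 B) (hle : B ≤ stab ψ) :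
    RatInv G B := by
  classical
  obtain ⟨T, hT, hT1, hT2, hT3, hT4, hT5⟩ := exists_supp hψ h1 hodd
  obtain ⟨χ₀, k1, k2, k3⟩ := exists_fixed_three hψ hrat h1 hodd hn hn3 hΘ hΘr h3
  have hχ₀ : χ₀ ∈ T := (hT1 χ₀).2 ⟨k1, k2⟩
  have hTn := (hT3 n hn).trans hn3
  set T₀ : Finset (IrrCharacter G) := T.filter (fun χ => ∀ σ : ℂ ≃+* ℂ, σ • χ = χ) with hT₀
  have hmem : ∀ χ, χ ∈ T₀ ↔ χ ∈ T ∧ ∀ σ : ℂ ≃+* ℂ, σ • χ = χ := fun χ => by rw [hT₀, Finset.mem_filter]
  have hsub : T₀ ⊆ T := Finset.filter_subset _ _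
  have hχ₀' : χ₀ ∈ T₀ := (hmem _).2 ⟨hχ₀, k3⟩
  have hpos : 0 < T₀.card := Finset.card_pos.2 ⟨χ₀, hχ₀'⟩
  have hle' := Finset.card_le_card hsub
  have hodd₀ : Odd T₀.card := by
    obtain ⟨k, hk⟩ := hT
    have hsd : (T \ T₀).card = T.card - T₀.card := Finset.card_sdiff_of_subset hsub
    have hno : (T \ T₀).card ≠ 1 := by
      intro h
      obtain ⟨c, hc⟩ := Finset.card_eq_one.1 h
      have hc1 : c ∈ T \ T₀ := by rw [hc]; exact Finset.mem_singleton_self c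
      rw [Finset.mem_sdiff] at hc1
      apply hc1.2
      rw [hmem]
      refine ⟨hc1.1, fun σ => ?_⟩
      have h4 : σ • c ∈ T := hT5 hrat σ c hc1.1
      by_cases h5 : σ • c ∈ T₀
      · have h6 := ((hmem _).1 h5).2 σ⁻¹
        rw [inv_smul_smul] at h6
        exact h6.symm
      · have h6 : σ • c ∈ T \ T₀ := Finset.mem_sdiff.2 ⟨h4, h5⟩
        rw [hc] at h6
        exact Finset.mem_singleton.1 h6
    rw [Nat.odd_iff]
    omega
  have htw : ∀ (σ : ℂ ≃+* ℂ) (b : MulAut G) (χ : IrrCharacter G), σ • tw b χ = tw b (σ • χ) := by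
    intro σ b χ
    apply Subtype.ext
    rfl
  let _ := twAct (S := G)
  obtain ⟨χ, hχ, hf⟩ := exists_fixed_of_odd (B := B) hB T₀ hodd₀ (fun b χ hχ => by
    rw [hmem] at hχ ⊢
    refine ⟨hT4 b.1 (hle b.2) χ hχ.1, fun σ => ?_⟩
    have := htw σ b.1 χ
    rw [hχ.2] at this
    exact this)
  rw [hmem] at hχ
  refine ⟨χ, χ.2, hT2 χ hχ.1, ((hT1 χ).1 hχ.1).1, fun g => ?_, fun b hb => mem_stab_iff_tw.1 (hf ⟨b, hb⟩)⟩
  apply GaloisBasic.exists_rat_of_forall_ringEquiv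
  · exact (GaloisBasic.isIntegral_apply (isIrr_isCharacter χ.2) g).tower_top
  · intro σ
    exact congrFun (congrArg Subtype.val (hχ.2 σ)) g

/-- **Norm three.** -/
theorem row2_of_norm_three {ψ : G → ℂ} (hψ : IsGeneralizedCharacter G ψ) (hrat : ∀ g : G, ∃ q : ℚ, ψ g = q)
    (h1 : classInner ψ 1 = 0) (hodd : ∃ k : ℤ, Odd k ∧ ψ 1 = k) {n : ℕ} (hn : classInner ψ ψ = n) (hn3 : n ≤ 3)
    {Θ : G → ℂ} (hΘ : IsGeneralizedCharacter G Θ) (hΘr : ∀ g : G, ∃ q : ℚ, Θ g = q)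
    (h3 : ∀ k : ℤ, classInner Θ ψ ≠ 3 * k) (hst : Odd (stab ψ).index) : Row2 G :=
  row2_of_pgroup hst fun B hB hle => ratInv_of_norm_three hψ hrat h1 hodd hn hn3 hΘ hΘr h3 B hB hle

end

end Cfsg.Agent.H226.R2
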