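import Cfsg.Agent.H226.R2.Psl
import Cfsg.Agent.H226.R2.Three

/-!
# `Row2` for `PSL_n(q)`, `q` even, `n ≥ 3` (helper226)

`row2_psl : 3 ≤ n → Row2 (PSL_n(F))`, `F` finite of characteristic two.
-/

set_option autoImplicit false

open scoped ComplexConjugate
open Cfsg

namespace Cfsg.Agent.H226.R2

open Cfsg.Agent.Characters Cfsg.Agent.H53.HC Module Cfsg.Agent.H61.GowFlag Cfsg.Agent.H61.GowGlue
  Cfsg.Agent.H61.GowSigma Cfsg.Agent.H61.GowPlane Matrix Cfsg.Agent.H636.Gow Cfsg.Agent.H61.GowPsl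
  Cfsg.Agent.H61.GowThree Cfsg.Agent.H199.PslAut Cfsg.Agent.H770.CY Cfsg.Agent.Characters.Core
  Cfsg.Agent.OddOrderCharacters.Clifford Cfsg.Agent.H61.GowThetaFour

open Cfsg.Agent.ClassicalGeometry.AutPSL.Root (pr pr_surjective)

universe u v

section Index

variable {G : Type u} [Group G] [Finite G] {H : Type v} [Group H] [Finite H]

/-- **Index at most three.** -/
theorem row2_of_index_three (j : H →* G) (hj : Function.Injective j) (hN : j.range.Normal)
    (hidx : j.range.index ≤ 3) {χ : G → ℂ} (hχ : IsIrrCharacter G χ) (hrat : ∀ g, ∃ q : ℚ, χ g = q)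
    (hodd : ∃ d : ℕ, Odd d ∧ χ 1 = d) (hne : χ 1 ≠ 1) (u : H) (hu : orderOf u = 4) (h1 : χ (j u) = 1)
    (hst : Odd (stab (χ ∘ j)).index) : Row2 H := by
  classical
  let _ : Fintype G := Fintype.ofFinite G
  let _ : Fintype H := Fintype.ofFinite H
  have hψ : IsCharacter H (χ ∘ j) := isCharacter_comp j (isIrr_isCharacter hχ)
  obtain ⟨d, hd, hd1⟩ := hodd
  -- the norm
  obtain ⟨n, hn⟩ := classInner_isNat hψ hψ
  have hcard : (Nat.card G : ℝ) = (Nat.card H : ℝ) * (j.range.index : ℝ) := by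
    rw [← Nat.cast_mul, ← Subgroup.card_mul_index j.range,
      Nat.card_congr (MonoidHom.ofInjective hj).toEquiv]
  have hHpos : (0 : ℝ) < Nat.card H := by exact_mod_cast Nat.card_pos
  have hn3 : n ≤ 3 := by
    have e1 := classInner_self_eq_ofReal (χ ∘ j)
    have e2 := classInner_self_eq_ofReal χ
    rw [classInner_irr_self hχ] at e2
    rw [hn] at e1
    have e1' : (n : ℝ) = (Nat.card H : ℝ)⁻¹ * ∑ g : H, Complex.normSq ((χ ∘ j) g) := by exact_mod_cast e1
    have e2' : (1 : ℝ) = (Nat.card G : ℝ)⁻¹ * ∑ g : G, Complex.normSq (χ g) := by exact_mod_cast e2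
    have hG0 : (Nat.card G : ℝ) ≠ 0 := by exact_mod_cast Nat.card_pos.ne'
    have e3 : ∑ g : G, Complex.normSq (χ g) = Nat.card G := by
      field_simp at e2'
      linarith
    have e4 : ∑ g : H, Complex.normSq ((χ ∘ j) g) ≤ ∑ g : G, Complex.normSq (χ g) := by
      have : ∑ g : H, Complex.normSq ((χ ∘ j) g) = ∑ g ∈ Finset.univ.image j, Complex.normSq (χ g) := by
        rw [Finset.sum_image (fun x _ y _ h => hj h)]
        rfl
      rw [this]
      exact Finset.sum_le_univ_sum_of_nonneg fun g => Complex.normSq_nonneg _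
    rw [e3, hcard] at e4
    have e5 : (n : ℝ) ≤ 3 := by
      have h3 : (j.range.index : ℝ) ≤ 3 := by exact_mod_cast hidx
      rw [e1', inv_mul_le_iff₀ hHpos]
      exact e4.trans (mul_le_mul_of_nonneg_left h3 hHpos.le)
    exact_mod_cast e5
  -- orthogonal to the trivial character
  have horth : classInner (χ ∘ j) 1 = 0 := by
    let _ : Fintype j.range := Fintype.ofFinite _
    have h2 := CharDeep.FrobKernel.sum_apply_eq_zero j.range hχ ⟨j u, ⟨u, rfl⟩, by rw [h1]; exact hne.symm⟩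
    rw [classInner_apply]
    have h3 : ∑ g : H, (χ ∘ j) g * conj ((1 : H → ℂ) g) = ∑ k : j.range, χ k := by
      refine Fintype.sum_equiv (MonoidHom.ofInjective hj).toEquiv _ _ fun g => ?_
      rw [Pi.one_apply, map_one, mul_one]
      rfl
    rw [h3, h2, mul_zero]
  obtain ⟨Θ, hΘ, hΘr, hΘi⟩ := exists_theta_four u hu
  have hu3 : (χ ∘ j) (u ^ 3) = 1 := by
    have h4 : u ^ 3 = u⁻¹ := by
      apply eq_inv_of_mul_eq_one_left
      rw [← pow_succ]
      have h5 := pow_orderOf_eq_one u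
      rwa [hu] at h5
    rw [h4, isCharacter_apply_inv hψ]
    change conj (χ (j u)) = 1
    rw [h1, map_one]
  refine row2_of_norm_three (n := n) ⟨_, _, hψ, isCharacter_zero, (sub_zero _).symm⟩ (fun g => hrat (j g)) horth
    ⟨d, by exact_mod_cast hd, ?_⟩ hn hn3 hΘ hΘr (fun k hk => ?_) hst
  · change χ (j 1) = _
    rw [map_one, hd1]
    simp
  · rw [hΘi _ (isCharacter_isClassFunction hψ), hu3, show (χ ∘ j) u = 1 from h1, map_one] at hk
    have h5 : (1 : ℤ) = 3 * k := by
      have : (1 : ℂ) = ((3 * k : ℤ) : ℂ) := by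
        push_cast
        rw [← hk]; norm_num
      exact_mod_cast this
    omega

end Index

section

variable {F : Type u} [Field F]

/-- **`PSL_3(q)`, `q` even, `q ≡ 1 (mod 3)`** -/
theorem row2_psl_three_one_mod [Fintype F] [CharP F 2] (h : 3 ∣ Fintype.card F - 1) :
    Row2 (Matrix.ProjectiveSpecialLinearGroup (Fin 3) F) := by
  classical
  obtain ⟨μ, h3, hμ⟩ := exists_mu h
  have : Finite (GL (Fin 3) F) := inferInstance
  let _ : Fintype (GL (Fin 3) F) := Fintype.ofFinite _
  let _ : Fintype (Subgroup.center (GL (Fin 3) F)) := Fintype.ofFinite _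
  have hirr : IsIrrCharacter (GL (Fin 3) F) (flagChar (rhoGL F 3) (planes F 3) (sigma μ)) :=
    isIrr_sigma_GL μ h3 hμ le_rfl _ (rhoGL_surj 3)
  have hcf := Core.isIrr_isClassFunction (sigma_isIrr μ hμ)
  have hone : flagChar (rhoGL F 3) (planes F 3) (sigma μ) 1 =
      ((Nat.card (planes F 3) * Nat.card (lines F) : ℕ) : ℂ) := by
    rw [flagChar_one (rhoGL F 3) (planes F 3) hcf (fun W hW => hW), sigma_one]
    push_cast
    rfl
  have hplanes := one_lt_card_planes (F := F) (n := 3) le_rfl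
  have hodd : Odd (Nat.card (planes F 3) * Nat.card (lines F)) :=
    (odd_card_planes even_card (by norm_num)).mul (odd_card_lines even_card)
  obtain ⟨χ, hχ⟩ := Blocks.Deflate.exists_deflation (Subgroup.center (GL (Fin 3) F)) _ hirr (by
    rw [Finset.sum_congr rfl (g := fun _ => flagChar (rhoGL F 3) (planes F 3) (sigma μ) 1) (fun z _ => ?_)]
    · rw [Finset.sum_const, hone, nsmul_eq_mul, ← Nat.cast_mul, Nat.cast_ne_zero]
      exact Nat.mul_ne_zero (Finset.card_ne_zero_of_mem (Finset.mem_univ 1)) hodd.pos.ne'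
    · obtain ⟨c, hc⟩ : (z : GL (Fin 3) F) ∈ (Matrix.GeneralLinearGroup.scalar (Fin 3) : Fˣ →* GL (Fin 3) F).range :=
        Matrix.GeneralLinearGroup.center_eq_range_scalar.le z.2
      refine flagChar_scalar (rhoGL F 3) (planes F 3) hcf (fun W hW => hW) (c := c) (fun v => ?_)
        (sigma_scalar_one h3 c)
      rw [← hc, rhoGL_scalar])
  have hval : ∀ g, flagChar (rhoGL F 3) (planes F 3) (sigma μ) g =
      (χ : (GL (Fin 3) F ⧸ Subgroup.center (GL (Fin 3) F)) → ℂ) (QuotientGroup.mk g) := fun g => congrFun hχ g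
  obtain ⟨g, hg, hker⟩ := S0307.result (F := F) rfl 3 (by norm_num)
  have : Finite (Matrix.ProjGenLinGroup (Fin 3) F) := inferInstanceAs
    (Finite (GL (Fin 3) F ⧸ Subgroup.center (GL (Fin 3) F)))
  have : Finite (Matrix.ProjectiveSpecialLinearGroup (Fin 3) F) := inferInstance
  have hratG : ∀ x : Matrix.ProjGenLinGroup (Fin 3) F, ∃ q : ℚ,
      (χ : (GL (Fin 3) F ⧸ Subgroup.center (GL (Fin 3) F)) → ℂ) x = q := by
    intro x
    obtain ⟨x, rfl⟩ := QuotientGroup.mk_surjective x
    obtain ⟨q, hq⟩ := flagChar_mem (rhoGL F 3) (planes F 3) (algebraMap ℚ ℂ).range (Ψ := sigma μ) (fun A => by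
      obtain ⟨q, hq⟩ := sigma_rat μ h3 hμ A
      exact ⟨q, by rw [hq]; rfl⟩) x
    refine ⟨q, ?_⟩
    have h1 := hval x
    rw [← hq] at h1
    exact h1.symm
  refine row2_of_index_three (G := Matrix.ProjGenLinGroup (Fin 3) F)
    (Matrix.ProjectiveSpecialLinearGroup.toPGL (n := Fin 3) (R := F)) Matrix.ProjectiveSpecialLinearGroup.toPGL_injective
    ?_ ?_ (χ := (χ : (GL (Fin 3) F ⧸ Subgroup.center (GL (Fin 3) F)) → ℂ)) χ.2 hratG ?_ ?_
    (QuotientGroup.mk (uu F)) orderOf_uu ?_ ?_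
  · rw [← hker]
    infer_instance
  · rw [← hker, Subgroup.index_ker, MonoidHom.range_eq_top.2 hg, Subgroup.card_top]
    have : Nat.card (Multiplicative (ZMod (Nat.gcd 3 (Fintype.card F - 1)))) = Nat.gcd 3 (Fintype.card F - 1) :=
      Nat.card_zmod _
    rw [this]
    exact Nat.gcd_le_left _ (by norm_num)
  · refine ⟨_, hodd, ?_⟩
    have h1 := hval 1
    rw [hone] at h1
    exact h1.symm
  · intro h1
    have h2 := hval 1
    rw [hone] at h2
    have h4 : ((Nat.card (planes F 3) * Nat.card (lines F) : ℕ) : ℂ) = ((1 : ℕ) : ℂ) := by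
      rw [h2, Nat.cast_one]
      exact h1
    rw [Nat.cast_inj] at h4
    have h5 := Nat.eq_one_of_mul_eq_one_right h4
    omega
  · have h1 := hval (Matrix.SpecialLinearGroup.toGL (uu F))
    rw [flagChar_congr (rhoGL F 3) (Matrix.SpecialLinearGroup.toLin' (n := Fin 3) (R := F)) (planes F 3) (sigma μ)
      (rhoGL_toGL (uu F)), flagChar_uu hμ] at h1
    exact h1.symm
  · have h6 : stab ((χ : (GL (Fin 3) F ⧸ Subgroup.center (GL (Fin 3) F)) → ℂ) ∘
        (Matrix.ProjectiveSpecialLinearGroup.toPGL (n := Fin 3) (R := F))) = ⊤ := by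
      refine stab_eq_top (n := 3) (F := F) (Ψ := sigma μ) hcf (fun s => ?_) le_rfl ?_ ?_ (sigma_field μ h3 hμ)
      · exact (hval (Matrix.SpecialLinearGroup.toGL s)).symm
      · exact isCharacter_comp (Matrix.ProjectiveSpecialLinearGroup.toPGL (n := Fin 3) (R := F))
          (isIrr_isCharacter (G := Matrix.ProjGenLinGroup (Fin 3) F) χ.2)
      · intro x
        exact hratG _
    have h7 : Odd (stab ((χ : (GL (Fin 3) F ⧸ Subgroup.center (GL (Fin 3) F)) → ℂ) ∘
        (Matrix.ProjectiveSpecialLinearGroup.toPGL (n := Fin 3) (R := F)))).index := by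
      rw [h6, Subgroup.index_top]
      exact odd_one
    exact h7

/-- **`PSL_n(q)`, `q` even, `n ≥ 3`** -/
theorem row2_psl (F : Type u) [Field F] [Fintype F] [CharP F 2] {n : ℕ} (hn : 3 ≤ n) :
    Row2 (Matrix.ProjectiveSpecialLinearGroup (Fin n) F) := by
  rcases mod_three (F := F) with h | h
  · rcases hn.eq_or_lt with rfl | h4
    · exact row2_psl_three_one_mod h
    · exact row2_psl_one_mod even_card h4 h
  · exact row2_psl_two_mod hn h

end

end Cfsg.Agent.H226.R2
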