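import Cfsg.Agent.H649.VanSp4.Tor
import Cfsg.Agent.H379.P4.TwoElt
import Cfsg.Agent.Characters.CCBasic

/-!
# The CC-torus of order `q² + 1` of `Sp₄(q)`, `q` even (helper226)

* `exists_cc_sp` : `Matrix.symplecticGroup (Fin 2) F`;
* `exists_cc_psp` : `PSp 2 F`.

A cyclic CC-subgroup `A` of order `q² + 1` and, when `5 ∣ q² + 1`, an element of order five of `A` conjugate to its
nontrivial powers; also `y` of order four with `y x y⁻¹ = x ^ q` for the generator `x` of `A`.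
-/

set_option autoImplicit false

namespace Cfsg.Agent.H226.R2

open Module Subgroup Cfsg Cfsg.Agent.H183.NF4 Cfsg.Agent.H129.CycT Cfsg.Agent.H649.VanSp4
open Cfsg.Agent.Characters.CCBasic Cfsg.Agent.H129.TorAct

universe u v w

section

variable {F : Type u} [Field F] [Fintype F] {V : Type v} [AddCommGroup V] [Module F V] [FiniteDimensional F V]
  {Y : Type w} [Group Y] [Finite Y] (D : Dat F V Y)

include D

/-- the centralizers (the proof of helper649's `cycExact_dat`) -/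
theorem cc_dat (h2 : 2 ∣ Fintype.card F) {y0 : Y} (h0 : orderOf y0 = Fintype.card F ^ 2 + 1)
    (hcyc : ∀ r : ℕ, r.Prime → orderOf ((Fintype.card F : ℕ) : ZMod r) = 4 → ∀ R : Subgroup Y, IsPGroup r R →
      IsCyclic R) : IsCC (zpowers y0) := by
  refine ⟨?_, ?_⟩
  · rw [Ne, zpowers_eq_bot]
    rintro rfl
    rw [orderOf_one] at h0
    have : 0 < Fintype.card F := Fintype.card_pos
    have : 0 < Fintype.card F ^ 2 := by positivity
    omega
  intro z hz hz1
  refine le_antisymm (cent_le_of_prime (T := zpowers y0) ?_ hz hz1) (le_centralizer_of_cyclic inferInstance hz)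
  intro r hr y hy hyr
  have hrd : r ∣ Fintype.card F ^ 2 + 1 := by
    rw [← h0, ← hyr]
    exact orderOf_dvd_of_mem_zpowers hy
  have ho := order_four hr h2 hrd
  have hirr := D.irr_of_order hr ho hyr
  have hyq : y ^ (Fintype.card F ^ 2 + 1) = 1 := by
    rw [← orderOf_dvd_iff_pow_eq_one, hyr]
    exact hrd
  have hle : zpowers y0 ≤ centralizer ({y} : Set Y) := by
    rw [zpowers_le, mem_centralizer_singleton_iff]
    obtain ⟨k, rfl⟩ := mem_zpowers_iff.1 hy
    rw [← zpow_one_add, ← zpow_add_one, add_comm]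
  have hexp : ∀ c ∈ centralizer ({y} : Set Y), c ^ (Fintype.card F ^ 2 + 1) = 1 := by
    intro c hc
    rw [mem_centralizer_singleton_iff] at hc
    exact D.pow_eq_one_of_comm hirr hyq hc.symm
  have hdvd : Nat.card (centralizer ({y} : Set Y)) ∣ Fintype.card F ^ 2 + 1 := by
    rw [Nat.dvd_iff_prime_pow_dvd_dvd]
    intro s k hs hk
    have := Fact.mk hs
    rcases Nat.eq_zero_or_pos k with rfl | hk0
    · rw [pow_zero]
      exact one_dvd _
    obtain ⟨K, hK⟩ := Sylow.exists_subgroup_card_pow_prime s hk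
    have hKp : IsPGroup s K := IsPGroup.of_card hK
    have hsd : s ∣ Fintype.card F ^ 2 + 1 := by
      obtain ⟨c, hc⟩ := exists_prime_orderOf_dvd_card' (G := K) s (by rw [hK]; exact dvd_pow_self s hk0.ne')
      have h3 := hexp _ c.1.2
      rw [← orderOf_dvd_iff_pow_eq_one, Subgroup.orderOf_coe, Subgroup.orderOf_coe, hc] at h3
      exact h3
    have hc1 := hcyc s hs (order_four hs h2 hsd) (K.map (centralizer ({y} : Set Y)).subtype) (hKp.map _)
    have hc2 : IsCyclic K :=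
      isCyclic_of_injective (K.equivMapOfInjective (centralizer ({y} : Set Y)).subtype
        (Subgroup.subtype_injective _)).toMonoidHom (MulEquiv.injective _)
    obtain ⟨g, hg⟩ := IsCyclic.exists_ofOrder_eq_natCard (α := K)
    have h3 := hexp _ g.1.2
    rw [← orderOf_dvd_iff_pow_eq_one, Subgroup.orderOf_coe, Subgroup.orderOf_coe, hg, hK] at h3
    exact h3
  have heq : zpowers y0 = centralizer ({y} : Set Y) := by
    refine Subgroup.eq_of_le_of_card_ge hle ?_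
    rw [Nat.card_zpowers, h0]
    exact Nat.le_of_dvd (Nat.succ_pos _) hdvd
  exact heq.ge

end

/-- transport of a CC-subgroup -/
theorem isCC_zpowers_map {G : Type u} {H : Type v} [Group G] [Group H] (e : G ≃* H) {x : G}
    (h : IsCC (zpowers x)) : IsCC (zpowers (e x)) := by
  refine ⟨?_, ?_⟩
  · rw [Ne, zpowers_eq_bot]
    intro h1
    apply h.ne_bot
    rw [zpowers_eq_bot]
    exact e.injective (h1.trans (map_one e).symm)
  · intro z hz hz1
    obtain ⟨k, rfl⟩ := mem_zpowers_iff.1 hz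
    have h1 : x ^ k ≠ 1 := by
      intro h2
      apply hz1
      rw [← map_zpow, h2, map_one]
    have h2 := h.cent _ (zpow_mem (mem_zpowers x) k) h1
    ext c
    obtain ⟨c, rfl⟩ := e.surjective c
    rw [mem_centralizer_singleton_iff, ← map_zpow, ← map_mul, ← map_mul, e.injective.eq_iff,
      ← mem_centralizer_singleton_iff, h2]
    constructor
    · intro h3
      obtain ⟨j, rfl⟩ := mem_zpowers_iff.1 h3
      rw [map_zpow]
      exact zpow_mem (mem_zpowers _) j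
    · intro h3
      obtain ⟨j, hj⟩ := mem_zpowers_iff.1 h3
      rw [← map_zpow, e.injective.eq_iff] at hj
      rw [← hj]
      exact zpow_mem (mem_zpowers _) j

/-- the element of order five -/
theorem isConj_pow_five {G : Type u} [Group G] [Finite G] {x y : G} {q : ℕ} (hx : orderOf x = q ^ 2 + 1) (h5 : 5 ∣ q ^ 2 + 1)
    (hyx : y * x = x ^ q * y) : orderOf (x ^ ((q ^ 2 + 1) / 5)) = 5 ∧
      ∀ k : ℕ, ¬ 5 ∣ k → IsConj (x ^ ((q ^ 2 + 1) / 5)) ((x ^ ((q ^ 2 + 1) / 5)) ^ k) := by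
  obtain ⟨c, hc⟩ := h5
  have hdiv : (q ^ 2 + 1) / 5 = c := by rw [hc]; exact Nat.mul_div_cancel_left c (by norm_num)
  rw [hdiv]
  have hc0 : c ≠ 0 := by
    rintro rfl
    omega
  have ho : orderOf (x ^ c) = 5 := by
    rw [orderOf_pow, hx, hc, Nat.gcd_mul_left_left, Nat.mul_div_cancel _ (Nat.pos_of_ne_zero hc0)]
  refine ⟨ho, ?_⟩
  obtain ⟨z, hz⟩ : ∃ z, z = x ^ c := ⟨_, rfl⟩
  rw [← hz] at ho ⊢
  have h1 : y * z * y⁻¹ = z ^ q := by
    have h2 : y * x * y⁻¹ = x ^ q := by rw [hyx, mul_inv_cancel_right]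
    rw [hz, ← conj_pow, h2, ← pow_mul, ← pow_mul, mul_comm]
  have hq : q % 5 = 2 ∨ q % 5 = 3 := by
    have h3 : (q ^ 2 + 1) % 5 = 0 := by rw [hc]; exact Nat.mul_mod_right 5 c
    have h4 : q % 5 = 0 ∨ q % 5 = 1 ∨ q % 5 = 2 ∨ q % 5 = 3 ∨ q % 5 = 4 := by omega
    rcases h4 with h4 | h4 | h4 | h4 | h4 <;> rw [Nat.add_mod, Nat.pow_mod, h4] at h3 <;> simp at h3 <;> omega
  have hmod : ∀ a b : ℕ, a % 5 = b % 5 → z ^ a = z ^ b := by
    intro a b hab
    rw [← pow_mod_orderOf, ho, hab, ← ho, pow_mod_orderOf]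
  have hstep : ∀ a b : ℕ, (q * a) % 5 = b % 5 → IsConj (z ^ a) (z ^ b) := by
    intro a b hab
    rw [isConj_iff]
    refine ⟨y, ?_⟩
    rw [← conj_pow, h1, ← pow_mul]
    exact hmod _ _ hab
  have hone : z = z ^ 1 := (pow_one z).symm
  intro k hk
  have hk4 : k % 5 = 1 ∨ k % 5 = 2 ∨ k % 5 = 3 ∨ k % 5 = 4 := by omega
  have hmul : ∀ a b : ℕ, (q * a) % 5 = ((q % 5) * (a % 5)) % 5 := fun a _ => Nat.mul_mod q a 5
  rw [hmod k (k % 5) (Nat.mod_mod k 5).symm]
  nth_rw 1 [hone]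
  rcases hq with hq | hq
  · have s1 : IsConj (z ^ 1) (z ^ 2) := hstep 1 2 (by rw [hmul 1 0, hq])
    have s2 : IsConj (z ^ 2) (z ^ 4) := hstep 2 4 (by rw [hmul 2 0, hq])
    have s3 : IsConj (z ^ 4) (z ^ 3) := hstep 4 3 (by rw [hmul 4 0, hq])
    rcases hk4 with h | h | h | h <;> rw [h]
    · exact s1
    · exact (s1.trans s2).trans s3
    · exact s1.trans s2
  · have s1 : IsConj (z ^ 1) (z ^ 3) := hstep 1 3 (by rw [hmul 1 0, hq])
    have s2 : IsConj (z ^ 3) (z ^ 4) := hstep 3 4 (by rw [hmul 3 0, hq])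
    have s3 : IsConj (z ^ 4) (z ^ 2) := hstep 4 2 (by rw [hmul 4 0, hq])
    rcases hk4 with h | h | h | h <;> rw [h]
    · exact (s1.trans s2).trans s3
    · exact s1
    · exact s1.trans s2

section

variable (F : Type) [Field F] [Fintype F] [CharP F 2]

/-- **the torus with its normalizer element**: `x` of order `q² + 1`, `⟨x⟩` a CC-subgroup, `y x = x ^ q y` -/
theorem exists_frob_cc : ∃ x y : Matrix.symplecticGroup (Fin 2) F, orderOf x = Fintype.card F ^ 2 + 1 ∧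
    y ^ 4 = 1 ∧ y ^ 2 ≠ 1 ∧ y * x = x ^ Fintype.card F * y ∧ IsCC (zpowers x) := by
  obtain ⟨x, y, h1, h2, h3, h4⟩ := H379.P4.TwoElt.exists_frob (F := F)
  rw [Nat.card_eq_fintype_card] at h1 h4
  refine ⟨x, y, h1, h2, h3, h4, cc_dat (spDat F) two_dvd_card h1 ?_⟩
  intro r hr ho R hR
  exact r_cyclic (F := F) rfl hr ho R hR

/-- **`Sp₄(q)`, `q` even, `5 ∣ q² + 1`** (`q = 2` included) -/
theorem exists_cc_sp (h5 : 5 ∣ Fintype.card F ^ 2 + 1) : ∃ A : Subgroup (Matrix.symplecticGroup (Fin 2) F),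
    IsCC A ∧ IsCyclic A ∧ Nat.card A = Fintype.card F ^ 2 + 1 ∧ ∃ x ∈ A, orderOf x = 5 ∧
      ∀ k : ℕ, ¬ 5 ∣ k → IsConj x (x ^ k) := by
  obtain ⟨x, y, h1, -, -, h4, h6⟩ := exists_frob_cc F
  obtain ⟨h7, h8⟩ := isConj_pow_five h1 h5 h4
  exact ⟨zpowers x, h6, inferInstance, by rw [Nat.card_zpowers, h1], _, pow_mem (mem_zpowers x) _, h7, h8⟩

/-- **`PSp₄(q)`, `q` even, `5 ∣ q² + 1`** (`q = 2` included) -/
theorem exists_cc_psp (h5 : 5 ∣ Fintype.card F ^ 2 + 1) : ∃ A : Subgroup (PSp 2 F),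
    IsCC A ∧ IsCyclic A ∧ Nat.card A = Fintype.card F ^ 2 + 1 ∧ ∃ x ∈ A, orderOf x = 5 ∧
      ∀ k : ℕ, ¬ 5 ∣ k → IsConj x (x ^ k) := by
  obtain ⟨x, y, h1, -, -, h4, h6⟩ := exists_frob_cc F
  have h1' : orderOf (H292.SpCen.spEquiv (F := F) 2 x) = Fintype.card F ^ 2 + 1 := by
    rw [MulEquiv.orderOf_eq, h1]
  have h4' : H292.SpCen.spEquiv (F := F) 2 y * H292.SpCen.spEquiv (F := F) 2 x =
      H292.SpCen.spEquiv (F := F) 2 x ^ Fintype.card F * H292.SpCen.spEquiv (F := F) 2 y := by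
    rw [← map_mul, h4, map_mul, map_pow]
  obtain ⟨h7, h8⟩ := isConj_pow_five h1' h5 h4'
  exact ⟨zpowers (H292.SpCen.spEquiv (F := F) 2 x), isCC_zpowers_map _ h6, inferInstance,
    by rw [Nat.card_zpowers, h1'], _, pow_mem (mem_zpowers _) _, h7, h8⟩

end

end Cfsg.Agent.H226.R2
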