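import Cfsg.Agent.H226.R2.Base
import Cfsg.Agent.H776.CY.Congr
import Cfsg.Agent.H680.GowSz
import Cfsg.Agent.H829.GowTwF
import Cfsg.Agent.H521.TwoTw
import Cfsg.Agent.H659.PglTwF4

/-!
# `Row2` for `Sz(q)` and `²F₄(q)`, `q > 2` (helper226)
-/

set_option autoImplicit false

namespace Cfsg.Agent.H226.R2

open Cfsg Cfsg.Agent.H636.Gow Cfsg.Agent.H770.CY

universe u

/-- `Out S` of odd exponent -/
theorem odd_index_of_pow {S : Type u} [Group S] [Finite S] {n : ℕ} (hn : Odd n)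
    (h : ∀ x : MulAut S, ∃ g : S, x ^ n = MulAut.conj g) : Odd (MulAut.conj : S →* MulAut S).range.index := by
  have : Finite (MulAut S) := Finite.of_injective (fun e => (e : _ → _)) DFunLike.coe_injective
  have hN : (MulAut.conj : S →* MulAut S).range.Normal := by
    refine ⟨?_⟩
    rintro _ ⟨s, rfl⟩ a
    refine ⟨a s, ?_⟩
    ext x
    rw [MulAut.mul_apply, MulAut.mul_apply, MulAut.conj_apply, MulAut.conj_apply, map_mul, map_mul, map_inv,
      MulAut.apply_inv_self]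
  by_contra h1
  rw [Nat.not_odd_iff_even, even_iff_two_dvd] at h1
  have hp : Fact (Nat.Prime 2) := ⟨Nat.prime_two⟩
  obtain ⟨y, hy⟩ := exists_prime_orderOf_dvd_card' (G := MulAut S ⧸ (MulAut.conj : S →* MulAut S).range) 2 h1
  obtain ⟨x, rfl⟩ := QuotientGroup.mk_surjective y
  obtain ⟨g, hg⟩ := h x
  have h2 : (QuotientGroup.mk x : MulAut S ⧸ (MulAut.conj : S →* MulAut S).range) ^ n = 1 := by
    rw [← QuotientGroup.mk_pow, QuotientGroup.eq_one_iff]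
    exact ⟨g, hg.symm⟩
  have h3 := orderOf_dvd_of_pow_eq_one h2
  rw [hy] at h3
  obtain ⟨k, hk⟩ := hn
  omega

/-- **`Sz(q)`, `q > 2`** -/
theorem row2_sz {S : Type u} [Group S] [Finite S] (h : Lie.IsoSuzuki S) : Row2 S := by
  obtain ⟨F, _, _, m, hm, hF, ⟨e⟩⟩ := h
  have : Finite ↥(Cfsg.Lie.Sz F (2 ^ (m + 1))) := Finite.of_equiv S e.toEquiv
  refine Cfsg.Agent.H776.CY.Row2.congr e ?_
  exact row2_of_inner (odd_index_of_pow ⟨m, rfl⟩ (H521.TwoTw.pow_inner_sz hm hF))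
    ((H680.GowSz.ratOdd_sz hm hF).of_equiv (H680.GowSz.iso hm hF).symm)

/-- **`²F₄(q)`, `q > 2`** -/
theorem row2_tf4 {S : Type u} [Group S] [Finite S] (h : Lie.Iso2F4 S) : Row2 S := by
  obtain ⟨F, _, _, m, hm, hF, ⟨e⟩⟩ := h
  have : Finite ↥(Lie.twistedF4 F (2 ^ m)) := Finite.of_equiv S e.toEquiv
  have hc : CharP F 2 := by
    obtain ⟨p, hp⟩ := CharP.exists F
    obtain ⟨k, hpp, hk⟩ := FiniteField.card F p
    rw [hF] at hk
    have h5 : p ∣ 2 ^ (2 * m + 1) := by rw [hk]; exact dvd_pow_self p k.pos.ne'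
    have h6 := (Nat.prime_dvd_prime_iff_eq hpp Nat.prime_two).1 (hpp.dvd_of_dvd_pow h5)
    rwa [h6] at hp
  refine Cfsg.Agent.H776.CY.Row2.congr e ?_
  exact row2_of_inner (odd_index_of_pow ⟨m, rfl⟩ (H659.PglTwF4.pow_inner hF hm)) (H829.GowTwF.tw_f_four F m hm hF)

theorem rowFor2_sz : RowFor2 (fun X _ => Lie.IsoSuzuki X) := fun _ _ _ _ _ h => row2_sz h

theorem rowFor2_tf4 : RowFor2 (fun X _ => Lie.Iso2F4 X) := fun _ _ _ _ _ h => row2_tf4 h

end Cfsg.Agent.H226.R2
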