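import Cfsg.Agent.H637.CY.Pow
import Cfsg.Agent.H242.TwoCyc.Tits
import Cfsg.Agent.H217.Odm.RowTits
import Cfsg.Agent.H273.PiSpor.RowTits

/-!
# `Row2` for the Tits group (helper226)

(T1): the elements have order at most 16 and not nine, so `x ^ k = x` for `k` of odd order modulo `|S|` unless
`x` has order 13, and there the normalizer has order 78.
-/

set_option autoImplicit false

namespace Cfsg.Agent.H226.R2

open Cfsg Subgroup Cfsg.Agent.H770.CY Cfsg.Agent.H637.CY

universe u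

theorem ord_dvd_240 : ∀ n ∈ Finset.range 17, n ∣ 17971200 → ¬ 9 ∣ n → n ≠ 13 → n ∣ 240 := by decide +kernel

theorem four_240 : ∀ r ∈ Finset.range 240, Nat.Coprime r 240 → r ^ 4 % 240 = 1 := by decide +kernel

theorem twelve_13 : ∀ r ∈ Finset.range 13, r ≠ 0 → r ^ 12 % 13 = 1 := by decide +kernel

theorem odd_13 : ∀ r ∈ Finset.range 13, ∀ s ∈ Finset.range 12, s % 2 = 1 → r ^ s % 13 = 1 → r = 1 ∨ r = 3 ∨ r = 9 := by
  decide +kernel

theorem three_13 : ∀ r ∈ Finset.range 13, r ^ 3 % 13 = 1 → r = 1 ∨ r = 3 ∨ r = 9 := by decide +kernel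

/-- exponent two power: `k ≡ 1` -/
theorem modEq_one_240 {k m : ℕ} (hk : Nat.Coprime k 240) (hm : Odd m) (h : k ^ m ≡ 1 [MOD 240]) : k ≡ 1 [MOD 240] := by
  have h4 : k ^ 4 ≡ 1 [MOD 240] := by
    have h1 := four_240 (k % 240) (Finset.mem_range.2 (Nat.mod_lt _ (by norm_num))) (by
      rw [Nat.Coprime, ← Nat.gcd_rec, Nat.gcd_comm]
      exact hk)
    show k ^ 4 % 240 = 1 % 240
    rw [Nat.pow_mod, h1]
  have h5 : ∀ a : ℕ, k ^ (4 * a) ≡ 1 [MOD 240] := fun a => by
    rw [pow_mul]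
    exact (h4.pow a).trans (by rw [one_pow])
  obtain ⟨a, r, hr, rfl⟩ : ∃ a r : ℕ, (r = 1 ∨ r = 3) ∧ m = 4 * a + r := by
    obtain ⟨j, rfl⟩ := hm
    refine ⟨j / 2, if j % 2 = 0 then 1 else 3, ?_, ?_⟩
    · split_ifs <;> simp
    · split_ifs <;> omega
  have h6 : k ^ r ≡ 1 [MOD 240] := by
    have h7 := (h5 a).mul_right (k ^ r)
    rw [one_mul, ← pow_add] at h7
    exact h7.symm.trans h
  rcases hr with rfl | rfl
  · rwa [pow_one] at h6
  · have h7 := h6.mul_right k
    rw [one_mul, ← pow_succ] at h7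
    exact h7.symm.trans h4

theorem mod_13 {k m : ℕ} (hk : ¬ 13 ∣ k) (hm : Odd m) (h : k ^ m ≡ 1 [MOD 13]) : k % 13 = 1 ∨ k % 13 = 3 ∨ k % 13 = 9 := by
  have h12 : k ^ 12 ≡ 1 [MOD 13] := by
    have h1 := twelve_13 (k % 13) (Finset.mem_range.2 (Nat.mod_lt _ (by norm_num))) (fun h => hk (Nat.dvd_of_mod_eq_zero h))
    show k ^ 12 % 13 = 1 % 13
    rw [Nat.pow_mod, h1]
  have h5 : k ^ (12 * (m / 12)) ≡ 1 [MOD 13] := by
    rw [pow_mul]
    exact (h12.pow _).trans (by rw [one_pow])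
  have h6 : k ^ (m % 12) ≡ 1 [MOD 13] := by
    have h7 := h5.mul_right (k ^ (m % 12))
    rw [one_mul, ← pow_add, Nat.div_add_mod] at h7
    exact h7.symm.trans h
  refine odd_13 (k % 13) (Finset.mem_range.2 (Nat.mod_lt _ (by norm_num))) (m % 12)
    (Finset.mem_range.2 (Nat.mod_lt _ (by norm_num))) ?_ ?_
  · obtain ⟨j, rfl⟩ := hm
    omega
  · have h8 : k ^ (m % 12) % 13 = 1 % 13 := h6
    rw [Nat.pow_mod] at h8
    exact h8

/-- powers of an element of order 13 -/
theorem isConj_thirteen {S : Type u} [Group S] [Finite S] {x : S} (hx : orderOf x = 13)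
    (hN : 3 ∣ Nat.card (normalizer ((zpowers x : Subgroup S) : Set S))) (hC : ¬ 3 ∣ Nat.card (centralizer ({x} : Set S))) :
    IsConj x (x ^ 3) ∧ IsConj x (x ^ 9) := by
  have hp : Fact (Nat.Prime 3) := ⟨Nat.prime_three⟩
  obtain ⟨v, hv⟩ := exists_prime_orderOf_dvd_card' (G := normalizer ((zpowers x : Subgroup S) : Set S)) 3 hN
  have hv' : orderOf (v : S) = 3 := by rw [Subgroup.orderOf_coe, hv]
  have hv3 : (v : S) ^ 3 = 1 := by rw [← hv']; exact pow_orderOf_eq_one _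
  obtain ⟨y, hy⟩ : ∃ y, y = (v : S) := ⟨_, rfl⟩
  rw [← hy] at hv' hv3
  have h1 : y * x * y⁻¹ ∈ zpowers x := by
    have h2 := (mem_normalizer_iff.1 v.2 x).1 (mem_zpowers x)
    rw [hy]
    exact h2
  obtain ⟨j, hj1⟩ := (isOfFinOrder_of_finite x).mem_powers_iff_mem_zpowers.2 h1
  have hj : y * x * y⁻¹ = x ^ j := hj1.symm
  have hmod : ∀ a b : ℕ, a % 13 = b % 13 → x ^ a = x ^ b := by
    intro a b hab
    rw [← pow_mod_orderOf, hx, hab, ← hx, pow_mod_orderOf]
  have hstep : ∀ a : ℕ, y * x ^ a * y⁻¹ = x ^ (j * a) := by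
    intro a
    rw [← conj_pow, hj, ← pow_mul]
  have h3 : x ^ (j * (j * j)) = x := by
    rw [← hstep, ← hstep, ← hj]
    have : y * (y * (y * x * y⁻¹) * y⁻¹) * y⁻¹ = y ^ 3 * x * (y ^ 3)⁻¹ := by
      simp only [pow_succ, pow_zero, one_mul, mul_inv_rev, mul_assoc]
    rw [this, hv3, one_mul, inv_one, mul_one]
  have h4 : (j * (j * j)) % 13 = 1 := by
    have h5 : x ^ (j * (j * j)) = x ^ 1 := by rw [h3, pow_one]
    rw [pow_eq_pow_iff_modEq, hx] at h5
    exact h5
  have h5 : (j % 13) ^ 3 % 13 = 1 := by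
    rw [← Nat.pow_mod, pow_succ, pow_two, mul_assoc]
    exact h4
  rcases three_13 (j % 13) (Finset.mem_range.2 (Nat.mod_lt _ (by norm_num))) h5 with h6 | h6 | h6
  · exfalso
    apply hC
    have h7 : y * x * y⁻¹ = x := by
      rw [hj, hmod j 1 (by rw [h6]), pow_one]
    have h8 : y ∈ centralizer ({x} : Set S) := by
      rw [mem_centralizer_singleton_iff]
      exact mul_inv_eq_iff_eq_mul.1 h7
    have h9 := Subgroup.orderOf_dvd_natCard _ h8
    rwa [hv'] at h9
  · have c1 : IsConj x (x ^ 3) := isConj_iff.2 ⟨y, by rw [hj]; exact hmod _ _ (by rw [h6])⟩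
    refine ⟨c1, c1.trans (isConj_iff.2 ⟨y, ?_⟩)⟩
    rw [hstep]
    exact hmod _ _ (by rw [Nat.mul_mod, h6])
  · have c1 : IsConj x (x ^ 9) := isConj_iff.2 ⟨y, by rw [hj]; exact hmod _ _ (by rw [h6])⟩
    refine ⟨c1.trans (isConj_iff.2 ⟨y, ?_⟩), c1⟩
    rw [hstep]
    exact hmod _ _ (by rw [Nat.mul_mod, h6])

/-- **the Tits group** -/
theorem row2_tits {S : Type u} [Group S] [Finite S] (h : Lie.IsoTits S) : Row2 S := by
  have F := H235.TitsRow.facts h
  have hcard : Nat.card S = 17971200 := by rw [F.card]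
  refine row2_of_isConj ?_ ?_
  · rw [hcard]
    decide
  · rintro x k hk ⟨m, hm, hkm⟩
    have hdvd := orderOf_dvd_natCard x
    rw [hcard] at hdvd hk hkm
    have hle := H242.TwoCyc.Tits.orderOf_le h x
    by_cases h13 : orderOf x = 13
    · have hN := (H217.OdmRowTits.thirteen h h13).1
      obtain ⟨i, -, hi⟩ := H273.PiSpor.Tits.cent13 h h13
      obtain ⟨c3, c9⟩ := isConj_thirteen h13 (by rw [hN]; norm_num) (by
        rw [hi]
        intro h3
        rcases (Nat.Prime.dvd_mul Nat.prime_three).1 h3 with h4 | h4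
        · revert h4; norm_num
        · have := Nat.prime_three.dvd_of_dvd_pow h4
          revert this; norm_num)
      have hk13 : ¬ 13 ∣ k := by
        intro h3
        have h4 := Nat.dvd_gcd h3 (show 13 ∣ 17971200 by norm_num)
        rw [Nat.Coprime] at hk
        rw [hk] at h4
        revert h4; norm_num
      have hk1 := mod_13 hk13 hm (hkm.of_dvd (by norm_num))
      have h5 : x ^ k = x ^ (k % 13) := by rw [← h13, pow_mod_orderOf]
      rw [h5]
      rcases hk1 with h6 | h6 | h6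
      · rw [h6, pow_one]
      · rw [h6]; exact c3
      · rw [h6]; exact c9
    · have h240 := ord_dvd_240 _ (Finset.mem_range.2 (by omega)) hdvd (fun h9 => H242.TwoCyc.Tits.not_nine F h9) h13
      have h6 := modEq_one_240 (hk.coprime_dvd_right (by norm_num)) hm (hkm.of_dvd (by norm_num))
      have h7 : x ^ k = x ^ 1 := by
        rw [pow_eq_pow_iff_modEq]
        exact h6.of_dvd h240
      rw [h7, pow_one]

theorem rowFor2_tits : RowFor2 (fun X _ => Lie.IsoTits X) := fun _ _ _ _ _ h => row2_tits h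

end Cfsg.Agent.H226.R2
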